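import Cfsg.Agent.StdRank2.HexOut

/-!
# `G₂(q)`, `³D₄(q)`: automorphisms centralising unipotent radicals

`c` normalises `AA σ x`.
* `aut_Q2` : if `c` centralises `X₁X₂X₃X₄X₅` then `c ∈ X₂ X₄ C(AA)`;
* `aut_Q1` : if `c` centralises `X₂X₃X₄X₅X₆` then `c ∈ X₄ C(AA)`.
-/

set_option autoImplicit false
set_option maxHeartbeats 400000

namespace Cfsg.Agent.OddHalf.DblR.HexK

open Subgroup Cfsg.Agent.StdRank2.Hex Cfsg.Agent.StdRank2.Hex.HexTwo Cfsg.Agent.SplitTwo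
open scoped commutatorElement

variable {E : Type*} [Field E] {σ : E ≃+* E} {G : Type*} [Group G] {x : ZMod 12 → E → G}

theorem mem_cent_of {c : G} (hc : ∀ k a, Ok σ k a → c * x k a * c⁻¹ = x k a) : c ∈ centralizer (AA σ x : Set G) := by
  rw [mem_centralizer_iff]
  intro y hy
  have h1 : y ∈ centralizer ({c} : Set G) := by
    refine gen_le (S := Set.univ) (fun k _ a ha => ?_) hy
    rw [mem_centralizer_iff]
    rintro _ rfl
    exact mul_inv_eq_iff_eq_mul.1 (hc k a ha)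
  exact (mem_centralizer_iff.1 h1 c (Set.mem_singleton c)).symm

/-- the form of `exists_conj` -/
theorem exists_field [Finite E] [Finite G] (h : HexTwo σ x) (hN : NotTwo σ) {c : G}
    (hc : ∀ v ∈ AA σ x, c * v * c⁻¹ ∈ AA σ x) :
    ∃ g ∈ AA σ x, ∃ τ : E ≃+* E, (∀ a, τ (σ a) = σ (τ a)) ∧
      ∀ k a, Ok σ k a → c * x k a * c⁻¹ = g * x k (τ a) * g⁻¹ := by
  obtain ⟨g, hg, ρ, hρ, e⟩ := out h hN hc
  refine ⟨g⁻¹, inv_mem hg, ρ, hρ, fun k a ha => ?_⟩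
  rw [← e k a ha]
  group

theorem comm_of_conj {g y z : G} (h : g * y * g⁻¹ = y) : Commute g y := mul_inv_eq_iff_eq_mul.1 h

variable (h : HexTwo σ x)
include h

theorem field_of_x3 [Finite E] {g : G} (hg : g ∈ UU σ x) {τ : E ≃+* E}
    (h3 : ∀ a, g * x 3 (τ a) * g⁻¹ = x 3 a) (a : E) : τ a = a := by
  refine (h.U_x3 (u := g) hg (y := τ a) (y' := a) ?_)
  have h1 : ⁅g, x 3 (τ a)⁆ * x 3 (τ a) = x 3 a := by
    rw [commutatorElement_def, inv_mul_cancel_right, h3]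
  rw [h1, h.x_sq (ok_odd (by decide) _)]
  exact one_mem _

theorem comm_x3_one {g : G} {τ : E ≃+* E} (h3 : ∀ a, g * x 3 (τ a) * g⁻¹ = x 3 a) :
    ⁅g, x 3 1⁆ ∈ gen σ x {2, 4} := by
  have h1 := h3 1
  rw [map_one] at h1
  rw [commutatorElement_def, h1, mul_inv_cancel]
  exact one_mem _

/-- an automorphism centralising `X₂X₃X₄X₅X₆` -/
theorem aut_Q1 [Finite E] [Finite G] (hN : NotTwo σ) {c : G} (hc : ∀ v ∈ AA σ x, c * v * c⁻¹ ∈ AA σ x)
    (hQ : ∀ v ∈ gen σ x (arc 2 5), c * v = v * c) :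
    ∃ z ∈ gen σ x {4}, z⁻¹ * c ∈ centralizer (AA σ x : Set G) := by
  obtain ⟨g, hg, τ, hτ, e⟩ := exists_field h hN hc
  have hQ' : ∀ k : ZMod 12, k ∈ arc 2 5 → ∀ a, Ok σ k a → g * x k (τ a) * g⁻¹ = x k a := by
    intro k hk a ha
    rw [← e k a ha, hQ _ (x_mem_gen hk ha), mul_inv_cancel_right]
  have h3 : ∀ a, g * x 3 (τ a) * g⁻¹ = x 3 a := fun a =>
    hQ' 3 (show (3 - 2 : ZMod 12).val < 5 by decide) a (ok_odd (by decide) a)
  have h4 : g * x 4 1 * g⁻¹ = x 4 1 := by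
    have := hQ' 4 (show (4 - 2 : ZMod 12).val < 5 by decide) 1 (ok_one σ 4)
    rwa [map_one] at this
  have hU : g ∈ UU σ x := h.mem_U_of hg h4 (comm_x3_one h h3)
  have hτ1 : ∀ a, τ a = a := field_of_x3 h hU h3
  have hQ2 : ∀ k : ZMod 12, k ∈ arc 2 5 → ∀ a, Ok σ k a → g * x k a * g⁻¹ = x k a := by
    intro k hk a ha
    have := hQ' k hk a ha
    rwa [hτ1] at this
  have hg1 : g ∈ gen σ x (arc 2 5) := h.mem_Q1_of_U hU fun c => by
    rw [commutatorElement_def, hQ2 3 (show (3 - 2 : ZMod 12).val < 5 by decide) c (ok_odd (by decide) c),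
      mul_inv_cancel]
    exact one_mem _
  have hg4 : g ∈ gen σ x {4} := by
    refine h.mem_X4_of_Q1 hg1 fun v hv => ?_
    have : v ∈ centralizer ({g} : Set G) := by
      refine gen_le (fun k hk a ha => ?_) hv
      rw [mem_centralizer_iff]
      rintro _ rfl
      exact mul_inv_eq_iff_eq_mul.1 (hQ2 k hk a ha)
    exact mem_centralizer_iff.1 this g (Set.mem_singleton g)
  refine ⟨g, hg4, mem_cent_of (σ := σ) fun k a ha => ?_⟩
  have e1 := e k a ha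
  rw [hτ1] at e1
  calc g⁻¹ * c * x k a * (g⁻¹ * c)⁻¹ = g⁻¹ * (c * x k a * c⁻¹) * g := by group
    _ = x k a := by rw [e1]; group

/-- an automorphism centralising `X₁X₂X₃X₄X₅` -/
theorem aut_Q2 [Finite E] [Finite G] (hN : NotTwo σ) {c : G} (hc : ∀ v ∈ AA σ x, c * v * c⁻¹ ∈ AA σ x)
    (hQ : ∀ v ∈ gen σ x (arc 1 5), c * v = v * c) :
    ∃ z ∈ gen σ x {2, 4}, z⁻¹ * c ∈ centralizer (AA σ x : Set G) := by
  obtain ⟨g, hg, τ, hτ, e⟩ := exists_field h hN hc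
  have hQ' : ∀ k : ZMod 12, k ∈ arc 1 5 → ∀ a, Ok σ k a → g * x k (τ a) * g⁻¹ = x k a := by
    intro k hk a ha
    rw [← e k a ha, hQ _ (x_mem_gen hk ha), mul_inv_cancel_right]
  have h3 : ∀ a, g * x 3 (τ a) * g⁻¹ = x 3 a := fun a =>
    hQ' 3 (show (3 - 1 : ZMod 12).val < 5 by decide) a (ok_odd (by decide) a)
  have h4 : g * x 4 1 * g⁻¹ = x 4 1 := by
    have := hQ' 4 (show (4 - 1 : ZMod 12).val < 5 by decide) 1 (ok_one σ 4)
    rwa [map_one] at this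
  have h2 : g * x 2 1 * g⁻¹ = x 2 1 := by
    have := hQ' 2 (show (2 - 1 : ZMod 12).val < 5 by decide) 1 (ok_one σ 2)
    rwa [map_one] at this
  have hU : g ∈ UU σ x := h.mem_U_of hg h4 (comm_x3_one h h3)
  have hg2 : g ∈ gen σ x (arc 1 5) := h.mem_Q2_of_U hU (mul_inv_eq_iff_eq_mul.1 h2)
  have hτ1 : ∀ a, τ a = a := field_of_x3 h hU h3
  have hQ2 : ∀ k : ZMod 12, k ∈ arc 1 5 → ∀ a, Ok σ k a → g * x k a * g⁻¹ = x k a := by
    intro k hk a ha
    have := hQ' k hk a ha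
    rwa [hτ1] at this
  have hgW : g ∈ gen σ x {2, 4} := by
    refine h.mem_W_of_Q2 hg2 fun v hv => ?_
    have : v ∈ centralizer ({g} : Set G) := by
      refine gen_le (fun k hk a ha => ?_) hv
      rw [mem_centralizer_iff]
      rintro _ rfl
      exact mul_inv_eq_iff_eq_mul.1 (hQ2 k hk a ha)
    exact mem_centralizer_iff.1 this g (Set.mem_singleton g)
  refine ⟨g, hgW, mem_cent_of (σ := σ) fun k a ha => ?_⟩
  have e1 := e k a ha
  rw [hτ1] at e1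
  calc g⁻¹ * c * x k a * (g⁻¹ * c)⁻¹ = g⁻¹ * (c * x k a * c⁻¹) * g := by group
    _ = x k a := by rw [e1]; group

/-- an automorphism centralising `X₁X₂X₃X₄X₅X₆X₇`, or only `U` -/
theorem aut_U [Finite E] [Finite G] (hN : NotTwo σ) {c : G} (hc : ∀ v ∈ AA σ x, c * v * c⁻¹ ∈ AA σ x)
    (hU : ∀ v ∈ UU σ x, c * v = v * c) :
    ∃ z ∈ gen σ x {4}, z⁻¹ * c ∈ centralizer (AA σ x : Set G) :=
  aut_Q1 h hN hc fun v hv => hU v (gen_mono (fun l hl => by
    have : ∀ l : ZMod 12, (l - 2).val < 5 → (l - 1).val < 6 := by decide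
    exact this l hl) hv)

end Cfsg.Agent.OddHalf.DblR.HexK
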