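import Cfsg.Agent.OddHalf.DblR.HexK.TriP
import Cfsg.Agent.OddHalf.DblR.RowCore
import Cfsg.Agent.HexStart.HexPure
import Cfsg.Agent.Schreier.Basic

/-!
# `G₂(q)`, `³D₄(q)`: no commuting pair of root type

* `no_pair`, **`row`** : the rows for a subgroup `AA σ x` of `G`.
-/

set_option autoImplicit false
set_option maxHeartbeats 400000

namespace Cfsg.Agent.OddHalf.DblR.HexK

open Subgroup Cfsg.Agent.StdRank2.Hex Cfsg.Agent.StdRank2.Hex.HexTwo Cfsg.Agent.SplitTwo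
open scoped commutatorElement

local notation "cJ" => Cfsg.Agent.Nodes.Reps.cj

variable {E : Type*} [Field E] {σ : E ≃+* E} {G : Type*} [Group G] {x : ZMod 12 → E → G}

theorem notTwo_of {ω : E} (hω : σ ω = ω) (hω0 : ω ≠ 0) (hω1 : ω ≠ 1) : NotTwo σ :=
  Or.inl ⟨ω, hω, fun e => by
    have e1 : ω * (ω - 1) = 0 := by linear_combination e
    rcases mul_eq_zero.1 e1 with h1 | h1
    · exact hω0 h1
    · exact hω1 (sub_eq_zero.1 h1)⟩

theorem hout_of_sch {K : Subgroup G} (hs : Cfsg.Agent.Schreier.Basic.Sch ↥K) :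
    ∀ H : Subgroup G, H ≤ Subgroup.normalizer (K : Set G) → H ≤ ⁅H, H⁆ →
      ∀ x ∈ H, ∃ k ∈ K, ∃ c : G, (∀ y ∈ K, c * y = y * c) ∧ x = k * c := by
  intro H hHN hHp x hx
  let φ : ↥(Subgroup.normalizer (K : Set G)) →* MulAut ↥K := Subgroup.normalizerMonoidHom K
  have hφ : ∀ (c : ↥(Subgroup.normalizer (K : Set G))) (y : ↥K), ((φ c y : ↥K) : G) = c * y * (c : G)⁻¹ := fun c y => rfl
  have h1 : ((H.subgroupOf (Subgroup.normalizer (K : Set G))).map φ) ≤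
      ⁅(H.subgroupOf (Subgroup.normalizer (K : Set G))).map φ,
        (H.subgroupOf (Subgroup.normalizer (K : Set G))).map φ⁆ := by
    rw [← Subgroup.map_commutator]
    apply Subgroup.map_mono
    intro y hy
    have hy' : (y : G) ∈ ⁅H, H⁆ := hHp (Subgroup.mem_subgroupOf.1 hy)
    have h2 : ⁅H, H⁆ = ⁅H.subgroupOf (Subgroup.normalizer (K : Set G)),
        H.subgroupOf (Subgroup.normalizer (K : Set G))⁆.map (Subgroup.normalizer (K : Set G)).subtype := by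
      rw [Subgroup.map_commutator, Subgroup.map_subgroupOf_eq_of_le hHN]
    rw [h2] at hy'
    obtain ⟨y', hy1, hy2⟩ := hy'
    have : y' = y := Subtype.ext hy2
    rwa [← this]
  have h2 : φ ⟨x, hHN hx⟩ ∈ (H.subgroupOf (Subgroup.normalizer (K : Set G))).map φ := ⟨⟨x, hHN hx⟩, hx, rfl⟩
  obtain ⟨k, hk⟩ := hs _ (le_antisymm (Subgroup.commutator_le_self _) h1) h2
  refine ⟨k, k.2, (k : G)⁻¹ * x, ?_, by group⟩
  intro z hz
  have h3 := hφ ⟨x, hHN hx⟩ ⟨z, hz⟩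
  rw [← hk, MulAut.conj_apply] at h3
  have h4 : (k : G) * z * (k : G)⁻¹ = x * z * x⁻¹ := h3
  calc (k : G)⁻¹ * x * z = (k : G)⁻¹ * (x * z * x⁻¹) * x := by group
    _ = z * ((k : G)⁻¹ * x) := by rw [← h4]; group

variable (h : HexTwo σ x)
include h

/-- perfect subgroups of `C_K(x₄(t))` -/
theorem le_P [Finite E] {z : G} (hz : z ∈ gen σ x {4}) (hz1 : z ≠ 1) {H : Subgroup G} (hH : H ≤ AA σ x)
    (hHz : ∀ y ∈ H, y * z = z * y) : H ≤ gen σ x (arc 1 7) := by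
  obtain ⟨t, ht, rfl⟩ := h.mem_gen_singleton.1 hz
  have ht0 : t ≠ 0 := fun e => hz1 (by rw [e, h.x_zero])
  intro y hy
  exact (h.mem_centralizer_x4 (hH hy) (ht (by decide)) ht0).1 (by rw [hHz y hy, mul_inv_cancel_right])

/-- **No commuting pair of root type.** -/
theorem no_pair [Finite E] [Finite G] (hg : NormGen σ) {ω : E} (hω : σ ω = ω) (hω0 : ω ≠ 0) (hω1 : ω ≠ 1)
    {R : Subgroup G} (A : Amb (AA σ x) R) (two : ∀ c ∈ C1 (AA σ x) R, IsPGroup 2 (Subgroup.zpowers c) → c ∈ R)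
    (hC1 : ∀ H : Subgroup G, H ≤ C1 (AA σ x) R → H ≤ ⁅H, H⁆ → H = ⊥)
    {t t' : G} (ht : t ∈ R) (ht1 : t ≠ 1) (ht' : t' ∈ R) (ht1' : t' ≠ 1) (hne : t' ≠ t)
    {γ k : G} (hk : k ∈ AA σ x) (hg1 : cJ γ R ≤ R ⊔ gen σ x {4}) (hg2 : R ≤ cJ γ (R ⊔ cJ k (gen σ x {4})))
    (hg3 : ¬ cJ γ R ≤ R) : False := by
  have hN := notTwo_of hω hω0 hω1
  have L := loc h hg hω hω0 hω1 A ⟨t, ht, ht1⟩ two
  refine (ktriP h hg A ⟨t, ht, ht1⟩ hω hω0 hω1 hN).no_pair L (norX h) (a := nn x 6) (b := nn x 2) (c := 1)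
    (nn_mem_AA h 6) (nn_mem_AA h 2) (one_mem _) ?_ ?_ (Cfsg.Agent.Nodes.Reps.cj_one _) ?_ ?_
    (Cfsg.Agent.Nodes.Reps.cj_one _) ht ht1 ht' ht1' hne res res_cj ?_ (fun g hg => cj_of_cj_P h hg) hk hg1 hg2 hg3
  · exact cJ_nn h 6 (by rintro _ rfl; decide) (by rintro _ rfl; decide)
  · exact cJ_nn h 2 (by rintro _ rfl; decide) (by rintro _ rfl; decide)
  · refine cJ_nn h 6 ?_ ?_
    · intro l hl
      have : ∀ l : ZMod 12, (l - 1).val < 7 → (2 * 6 + 6 - l - 11).val < 7 := by decide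
      exact this l hl
    · intro l hl
      have : ∀ l : ZMod 12, (l - 11).val < 7 → (2 * 6 + 6 - l - 1).val < 7 := by decide
      exact this l hl
  · refine cJ_nn h 2 ?_ ?_
    · intro l hl
      have : ∀ l : ZMod 12, (l - 1).val < 7 → (2 * 2 + 6 - l - 3).val < 7 := by decide
      exact this l hl
    · intro l hl
      have : ∀ l : ZMod 12, (l - 3).val < 7 → (2 * 2 + 6 - l - 1).val < 7 := by decide
      exact this l hl
  · refine res_eq L.amb (fun p hp z hz => (L.XZ z hz p hp).symm) L.PK (le_trans L.XQ (le_trans L.QP L.PK))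
      ⟨t, ht, ht1⟩ (Cfsg.Agent.HexStart.P1_perfect h hω0 hω1).ge (hout_of_sch (Cfsg.Agent.HexStart.sch_AA h hN)) hC1 ?_
    intro z hz hz1 H hH hHz _
    exact le_P h hz hz1 hH hHz

/-- **The row.** -/
theorem row [Finite E] [Finite G] (hg : NormGen σ) {ω : E} (hω : σ ω = ω) (hω0 : ω ≠ 0) (hω1 : ω ≠ 1)
    (St : Std1 (AA σ x)) {D : Subgroup G} (hD : D ≤ Subgroup.centralizer (AA σ x : Set G)) (hD2 : IsPGroup 2 ↥D)
    (hDmax : ∀ D' : Subgroup G, D ≤ D' → D' ≤ Subgroup.centralizer (AA σ x : Set G) → IsPGroup 2 ↥D' → D' ≤ D)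
    (hC1 : ∀ H : Subgroup G, H ≤ C1 (AA σ x) D → H ≤ ⁅H, H⁆ → H = ⊥)
    {t t' : G} (ht : t ∈ D) (ht1 : t ≠ 1) (ht' : t' ∈ D) (ht1' : t' ≠ 1) (hne : t' ≠ t)
    {γ k : G} (hk : k ∈ AA σ x) (hg1 : cJ γ D ≤ D ⊔ gen σ x {4}) (hg2 : D ≤ cJ γ (D ⊔ cJ k (gen σ x {4})))
    (hg3 : ¬ cJ γ D ≤ D) : False := by
  obtain ⟨A, two⟩ := St.core (gen_mono (Set.subset_univ _)) (by
    intro z hz
    obtain ⟨t, ht, rfl⟩ := h.mem_gen_singleton.1 hz
    exact h.x_sq ht) hD hD2 hDmax hg1 hg3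
  exact no_pair h hg hω hω0 hω1 A two hC1 ht ht1 ht' ht1' hne hk hg1 hg2 hg3

end Cfsg.Agent.OddHalf.DblR.HexK
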