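import Cfsg.Agent.OddHalf.DblR.HexK.AutForm
import Cfsg.Agent.OddHalf.DblR.Fam

/-!
# `G₂(q)`, `³D₄(q)`: `KTri`

The long roots `2`, `6` and `4 = 2 + 6`. `Amb (AA σ x) R`, `R ≠ 1`.
* `ktri` : `KTri` when the norm is onto (`³D₄(q)`, and `G₂(q)` for `3 ∤ q - 1`).
-/

set_option autoImplicit false
set_option maxHeartbeats 400000

namespace Cfsg.Agent.OddHalf.DblR.HexK

open Subgroup Cfsg.Agent.StdRank2.Hex Cfsg.Agent.StdRank2.Hex.HexTwo Cfsg.Agent.SplitTwo
open scoped commutatorElement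

local notation "cJ" => Cfsg.Agent.Nodes.Reps.cj

variable {E : Type*} [Field E] {σ : E ≃+* E} {G : Type*} [Group G] {x : ZMod 12 → E → G}

theorem cJ_eq {g : G} {S S' : Subgroup G} (h1 : ∀ y ∈ S, g * y * g⁻¹ ∈ S') (h2 : ∀ y ∈ S', g⁻¹ * y * g ∈ S) :
    cJ g S = S' := by
  ext y
  rw [Cfsg.Agent.Nodes.Reps.mem_cj]
  refine ⟨fun hy => ?_, h2 y⟩
  have := h1 _ hy
  have e : g * (g⁻¹ * y * g) * g⁻¹ = y := by group
  rwa [e] at this

theorem C1_of_cent {K R : Subgroup G} {z c : G} (hzK : z ∈ K) (hKR : ∀ t ∈ R, ∀ k ∈ K, t * k = k * t)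
    (hc : ∀ a ∈ R, c * a = a * c) (h : z⁻¹ * c ∈ centralizer (K : Set G)) : z⁻¹ * c ∈ C1 K R := by
  rw [mem_C1]
  refine ⟨fun k hk => (mem_centralizer_iff.1 h k hk).symm, fun t ht => ?_⟩
  have h1 := hKR t ht z⁻¹ (inv_mem hzK)
  calc z⁻¹ * c * t = z⁻¹ * (c * t) := by group
    _ = (z⁻¹ * t) * c := by rw [hc t ht]; group
    _ = t * (z⁻¹ * c) := by rw [← h1]; group

theorem normalises {K R : Subgroup G} (A : Amb K R) (hR : ∃ t ∈ R, t ≠ 1) {c : G} (hc : ∀ a ∈ R, c * a = a * c) :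
    ∀ v ∈ K, c * v * c⁻¹ ∈ K := by
  obtain ⟨t, ht, ht1⟩ := hR
  exact A.nor t ht ht1 c (hc t ht)

variable (h : HexTwo σ x)
include h

theorem cJ_nn (c : ZMod 12) {S S' : Set (ZMod 12)} (h1 : ∀ l ∈ S, 2 * c + 6 - l ∈ S')
    (h2 : ∀ l ∈ S', 2 * c + 6 - l ∈ S) : cJ (nn x c) (gen σ x S) = gen σ x S' := by
  refine cJ_eq (fun y hy => h.nn_conj_gen c h1 hy) fun y hy => ?_
  have := h.nn_conj_gen c h2 hy
  rwa [h.nn_inv] at this ⊢

theorem cJ_H [Finite E] {t : G} (ht : t ∈ h.H) (S : Set (ZMod 12)) : cJ t (gen σ x S) = gen σ x S := by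
  refine cJ_eq (fun y hy => h.H_conj_gen ht S hy) fun y hy => ?_
  have := h.H_conj_gen (h.H.inv_mem ht) S hy
  rwa [inv_inv] at this

theorem nn_mem_AA (c : ZMod 12) : nn x c ∈ AA σ x := nn_mem_gen (Set.mem_univ _) (Set.mem_univ _)

theorem H_le [Finite E] : h.H ≤ AA σ x := by
  rintro g ⟨s, t, -, -, ht, rfl⟩
  exact mul_mem (hh_mem_gen (Set.mem_univ _) (Set.mem_univ _) (ok_odd (by decide) s))
    (hh_mem_gen (Set.mem_univ _) (Set.mem_univ _) (ok_of_fix 6 ht))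

theorem H_odd [Finite E] {g : G} (hg : g ∈ h.H) : ∃ l : ℕ, Odd l ∧ g ^ l = 1 := by
  refine ⟨Nat.card E - 1, ?_, h.H_pow hg⟩
  obtain ⟨n, hn, e⟩ := h.exists_card
  rw [e]
  obtain ⟨m, rfl⟩ : ∃ m, n = m + 1 := ⟨n - 1, by omega⟩
  rw [pow_succ]
  exact ⟨2 ^ m - 1, by have : 1 ≤ 2 ^ m := Nat.one_le_two_pow; omega⟩

/-- the torus elements of a short root centralising the long root at distance three -/
theorem act_long [Finite E] {k j : ZMod 12} (hk : k.val % 2 = 1) (hj : j.val % 2 = 0) (hd : j - k = 1 ∨ j - k = 11)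
    {s : E} (hs : s ≠ 0) {b : E} (hb : σ b = b) :
    hh x k s * x j b * (hh x k s)⁻¹ = x j (nrm σ s * b) := by
  rw [h.tor k j hs (ok_odd hk s) (ok_of_fix j hb)]
  have hk' : ¬ k.val % 2 = 0 := by omega
  unfold ch
  rw [if_neg hk']
  rcases hd with e | e <;> rw [e] <;> rfl

theorem act_perp [Finite E] {k j : ZMod 12} (hd : j - k = 3 ∨ j - k = 9) {s : E} (hs : s ≠ 0) (hok : Ok σ k s)
    {b : E} (hb : Ok σ j b) : hh x k s * x j b * (hh x k s)⁻¹ = x j b := by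
  rw [h.tor k j hs hok hb]
  have : ch σ k (j - k) s = 1 := by
    unfold ch
    split_ifs
    · rcases hd with e | e <;> rw [e] <;> rfl
    · rcases hd with e | e <;> rw [e] <;> rfl
  rw [this, one_mul]

theorem comm_nn_hh (c k : ZMod 12) (hck : 2 * c + 6 - k = k) {s : E} (hok : Ok σ k s) :
    hh x k s * nn x c = nn x c * hh x k s := by
  have := h.conj_nn_hh c k hok
  rw [hck] at this
  exact (mul_inv_eq_iff_eq_mul.1 this).symm

theorem commX (x2 y6 : G) (hx : x2 ∈ gen σ x {2}) (hy : y6 ∈ gen σ x {6}) :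
    ∃ b t, σ b = b ∧ σ t = t ∧ x2 = x 2 b ∧ y6 = x 6 t ∧ x2 * y6 * x2⁻¹ * y6⁻¹ = x 4 (b * t) := by
  obtain ⟨b, hb, rfl⟩ := h.mem_gen_singleton.1 hx
  obtain ⟨t, ht, rfl⟩ := h.mem_gen_singleton.1 hy
  have hb' : σ b = b := hb (by decide)
  have ht' : σ t = t := ht (by decide)
  refine ⟨b, t, hb', ht', rfl, rfl, ?_⟩
  have := h.commL4 (k := 2) (by decide) hb' ht'
  rw [commutatorElement_def] at this
  exact this

theorem norm_conj_X6 {y : G} (hy : y ∈ gen σ x (arc 1 5)) {u : G} (hu : u ∈ gen σ x {6}) :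
    u * y * u⁻¹ ∈ gen σ x (arc 1 5) := by
  obtain ⟨t, ht, rfl⟩ := h.mem_gen_singleton.1 hu
  have e : (1 : ZMod 12) + ((5 : ℕ) : ZMod 12) = 6 := by decide
  have := h.conj_last (k := 1) (n := 5) le_rfl (b := t) (by rw [e]; exact ht) hy
  rwa [e] at this

theorem norm_conj_X2 {y : G} (hy : y ∈ gen σ x (arc 3 5)) {u : G} (hu : u ∈ gen σ x {2}) :
    u * y * u⁻¹ ∈ gen σ x (arc 3 5) := by
  obtain ⟨t, ht, rfl⟩ := h.mem_gen_singleton.1 hu
  exact h.conj_first (k := 2) (n := 5) le_rfl ht hy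

/-- the shifted version of `aut_Q2` -/
theorem aut_Q2' [Finite E] [Finite G] (hN : NotTwo σ) {c : G} (hc : ∀ v ∈ AA σ x, c * v * c⁻¹ ∈ AA σ x)
    (hQ : ∀ v ∈ gen σ x (arc 3 5), c * v = v * c) :
    ∃ z ∈ gen σ x {4, 6}, z⁻¹ * c ∈ centralizer (AA σ x : Set G) := by
  have h' := h.shift (c := 2) (by decide)
  have eA : AA σ (fun j => x (j + 2)) = AA σ x := AA_shift 2 (by decide)
  obtain ⟨z, hz, hz'⟩ := aut_Q2 h' hN (c := c) (by rw [eA]; exact hc) (by
    intro v hv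
    rw [gen_shift_arc 2 (by decide)] at hv
    exact hQ v hv)
  rw [eA] at hz'
  refine ⟨z, ?_, hz'⟩
  rw [gen_shift 2 (by decide)] at hz
  refine gen_mono (fun l hl => ?_) hz
  have : ∀ l : ZMod 12, l - 2 = 2 ∨ l - 2 = 4 → l = 4 ∨ l = 6 := by decide
  exact this l hl

theorem mem_pair {k l : ZMod 12} (hkl : l = k + 2) (hk : k.val % 2 = 0) {z : G} (hz : z ∈ gen σ x {k, l}) :
    ∃ u ∈ gen σ x {k}, ∃ v ∈ gen σ x {l}, z = u * v := by
  have hl : l.val % 2 = 0 := by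
    subst hkl
    have : ∀ k : ZMod 12, k.val % 2 = 0 → (k + 2).val % 2 = 0 := by decide
    exact this k hk
  have hc : ∀ u ∈ gen σ x {k}, ∀ v ∈ gen σ x {l}, Commute u v := by
    intro u hu v hv
    obtain ⟨b, hb, rfl⟩ := h.mem_gen_singleton.1 hu
    obtain ⟨t, ht, rfl⟩ := h.mem_gen_singleton.1 hv
    refine h.comm_long hk ?_ hb ht
    subst hkl
    have : ∀ k : ZMod 12, (k + 2 - (k - 3)).val < 7 := by decide
    exact this k
  refine Subgroup.closure_induction (p := fun z _ => ∃ u ∈ gen σ x {k}, ∃ v ∈ gen σ x {l}, z = u * v) ?_ ?_ ?_ ?_ hz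
  · rintro _ ⟨j, hj, a, ha, rfl⟩
    rcases hj with rfl | hj
    · exact ⟨x j a, x_mem_gen (Set.mem_singleton _) ha, 1, one_mem _, by rw [mul_one]⟩
    · rw [Set.mem_singleton_iff] at hj
      subst hj
      exact ⟨1, one_mem _, x j a, x_mem_gen (Set.mem_singleton _) ha, by rw [one_mul]⟩
  · exact ⟨1, one_mem _, 1, one_mem _, by rw [one_mul]⟩
  · rintro _ _ - - ⟨u, hu, v, hv, rfl⟩ ⟨u', hu', v', hv', rfl⟩
    refine ⟨u * u', mul_mem hu hu', v * v', mul_mem hv hv', ?_⟩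
    have := (hc u' hu' v hv).eq
    calc u * v * (u' * v') = u * (v * u') * v' := by group
      _ = u * u' * (v * v') := by rw [← this]; group
  · rintro _ - ⟨u, hu, v, hv, rfl⟩
    refine ⟨u⁻¹, inv_mem hu, v⁻¹, inv_mem hv, ?_⟩
    rw [(hc u hu v hv).eq, mul_inv_rev]

omit h in
theorem arc_sub {k l : ZMod 12} {m n : ℕ} (H : ∀ j : ZMod 12, (j - k).val < m → (j - l).val < n) :
    gen σ x (arc k m) ≤ gen σ x (arc l n) := gen_mono fun j hj => H j hj

theorem sing_le {k l : ZMod 12} {n : ℕ} (H : (k - l).val < n) : gen σ x {k} ≤ gen σ x (arc l n) :=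
  gen_mono fun j hj => by
    rw [Set.mem_singleton_iff] at hj
    subst hj
    exact H

theorem disj {k l : ZMod 12} (hkl : k ≠ l) {y : G} (h1 : y ∈ gen σ x {k}) (h2 : y ∈ gen σ x {l}) : y = 1 := by
  obtain ⟨a, ha, rfl⟩ := h.mem_gen_singleton.1 h1
  obtain ⟨b, hb, e⟩ := h.mem_gen_singleton.1 h2
  by_contra hne
  have ha0 : a ≠ 0 := fun e0 => hne (by rw [e0, h.x_zero])
  exact hkl (h.root_unique ha hb ha0 e)

/-- `K1` of `KTri` -/
theorem gen26 {S : Subgroup G} (h2 : gen σ x {2} ≤ S) (h6 : gen σ x {6} ≤ S) (hY : gen σ x (arc 3 3) ≤ S) :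
    gen σ x (arc 2 5) ≤ S := by
  refine gen_le fun k hk a ha => ?_
  have : ∀ k : ZMod 12, (k - 2).val < 5 → k = 2 ∨ k = 6 ∨ (k - 3).val < 3 := by decide
  rcases this k hk with rfl | rfl | h3
  · exact h2 (x_mem_gen (Set.mem_singleton _) ha)
  · exact h6 (x_mem_gen (Set.mem_singleton _) ha)
  · exact hY (x_mem_gen h3 ha)

/-- **`KTri`** when the norm is onto. -/
theorem ktri [Finite E] [Finite G] (hN : NotTwo σ) {R : Subgroup G} (A : Amb (AA σ x) R) (hR : ∃ t ∈ R, t ≠ 1)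
    {ω : E} (hω : σ ω = ω) (hω0 : ω ≠ 0) (hω1 : ω ≠ 1)
    (hnorm : ∀ b : E, σ b = b → b ≠ 0 → ∃ s, s ≠ 0 ∧ nrm σ s = b) :
    KTri (AA σ x) R h.H (gen σ x {2}) (gen σ x {6}) (gen σ x {4}) (gen σ x (arc 11 7)) (gen σ x (arc 3 7))
      (gen σ x (arc 1 7)) (gen σ x (arc 1 5)) (gen σ x (arc 3 5)) (gen σ x (arc 3 3)) (nn x 6) (nn x 2) where
  XrPd := sing_le h (by decide)
  XsPd := sing_le h (by decide)
  XdPr := sing_le h (by decide)
  XdPs := sing_le h (by decide)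
  TK := H_le h
  Tab := fun a ha b hb => (h.H_comm ha hb).eq
  Todd := fun a ha => H_odd h ha
  TXr := fun a ha => cJ_H h ha _
  TXs := fun a ha => cJ_H h ha _
  TXd := fun a ha => cJ_H h ha _
  nK := nn_mem_AA h 6
  nX := cJ_nn h 6 (by rintro _ rfl; decide) (by rintro _ rfl; decide)
  mK := nn_mem_AA h 2
  mX := cJ_nn h 2 (by rintro _ rfl; decide) (by rintro _ rfl; decide)
  trr := by
    intro u hu hu1 u' hu' hu1'
    obtain ⟨b, hb, rfl⟩ := h.mem_gen_singleton.1 hu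
    obtain ⟨b', hb', rfl⟩ := h.mem_gen_singleton.1 hu'
    have hb0 : b ≠ 0 := fun e => hu1 (by rw [e, h.x_zero])
    have hb0' : b' ≠ 0 := fun e => hu1' (by rw [e, h.x_zero])
    have hbf : σ b = b := hb (by decide)
    have hbf' : σ b' = b' := hb' (by decide)
    obtain ⟨s, hs, e⟩ := hnorm (b' * b⁻¹) (by rw [map_mul, map_inv₀, hbf, hbf']) (mul_ne_zero hb0' (inv_ne_zero hb0))
    refine ⟨hh x 3 s, h.hh_mem_H 3 hs (ok_odd (by decide) s), ?_, comm_nn_hh h 6 3 (by decide) (ok_odd (by decide) s), ?_⟩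
    · intro y hy
      obtain ⟨t, ht, rfl⟩ := h.mem_gen_singleton.1 hy
      exact mul_inv_eq_iff_eq_mul.1 (act_perp h (k := 3) (j := 6) (Or.inl (by decide)) hs (ok_odd (by decide) s) ht)
    · rw [act_long h (k := 3) (j := 2) (by decide) (by decide) (Or.inr (by decide)) hs hbf, e, mul_assoc,
        inv_mul_cancel₀ hb0, mul_one]
  trs := by
    intro u hu hu1 u' hu' hu1'
    obtain ⟨b, hb, rfl⟩ := h.mem_gen_singleton.1 hu
    obtain ⟨b', hb', rfl⟩ := h.mem_gen_singleton.1 hu'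
    have hb0 : b ≠ 0 := fun e => hu1 (by rw [e, h.x_zero])
    have hb0' : b' ≠ 0 := fun e => hu1' (by rw [e, h.x_zero])
    have hbf : σ b = b := hb (by decide)
    have hbf' : σ b' = b' := hb' (by decide)
    obtain ⟨s, hs, e⟩ := hnorm (b' * b⁻¹) (by rw [map_mul, map_inv₀, hbf, hbf']) (mul_ne_zero hb0' (inv_ne_zero hb0))
    refine ⟨hh x 5 s, h.hh_mem_H 5 hs (ok_odd (by decide) s), ?_, comm_nn_hh h 2 5 (by decide) (ok_odd (by decide) s), ?_⟩
    · intro y hy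
      obtain ⟨t, ht, rfl⟩ := h.mem_gen_singleton.1 hy
      exact mul_inv_eq_iff_eq_mul.1 (act_perp h (k := 5) (j := 2) (Or.inr (by decide)) hs (ok_odd (by decide) s) ht)
    · rw [act_long h (k := 5) (j := 6) (by decide) (by decide) (Or.inl (by decide)) hs hbf, e, mul_assoc,
        inv_mul_cancel₀ hb0, mul_one]
  cmX := by
    intro u hu v hv
    obtain ⟨b, t, hb, ht, -, -, e⟩ := commX h u v hu hv
    rw [e]
    exact x_mem_gen (Set.mem_singleton _) (ok_of_fix 4 (by rw [map_mul, hb, ht]))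
  nd := by
    intro u hu v hv huv
    obtain ⟨b, t, hb, ht, e2, e6, e⟩ := commX h u v hu hv
    have h1 : x 4 (b * t) = 1 := by
      rw [← e, huv]
      group
    rcases mul_eq_zero.1 ((h.x_eq_one (k := 4) (ok_of_fix 4 (by rw [map_mul, hb, ht]))).1 h1) with h0 | h0
    · left; rw [e2, h0, h.x_zero]
    · right; rw [e6, h0, h.x_zero]
  big := by
    refine ⟨x 2 1, x_mem_gen (Set.mem_singleton _) (ok_one σ 2), x 2 ω, x_mem_gen (Set.mem_singleton _) (ok_of_fix 2 hω),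
      ?_, ?_, ?_⟩
    · rw [Ne, h.x_eq_one (ok_one σ 2)]; exact one_ne_zero
    · rw [Ne, h.x_eq_one (ok_of_fix 2 hω)]; exact hω0
    · rw [Ne, h.x_inj (ok_one σ 2) (ok_of_fix 2 hω)]; exact hω1.symm
  disr := fun u h1 h2 => disj h (by decide) h1 h2
  diss := fun u h1 h2 => disj h (by decide) h1 h2
  YrPr := arc_sub (by decide)
  YrPd := arc_sub (by decide)
  YrN := fun u hu y hy => norm_conj_X6 h hy hu
  K2r := by
    intro c hc hcY
    obtain ⟨z, hz, hz'⟩ := aut_Q2 h hN (normalises A hR hc) hcY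
    have hzA : z ∈ AA σ x := gen_mono (Set.subset_univ _) hz
    obtain ⟨u, hu, v, hv, rfl⟩ := mem_pair h (k := 2) (l := 4) (by decide) (by decide) hz
    exact ⟨u, hu, v, hv, C1_of_cent hzA A.comm hc hz'⟩
  YsPs := arc_sub (by decide)
  YsPd := arc_sub (by decide)
  YsN := fun u hu y hy => norm_conj_X2 h hy hu
  K2s := by
    intro c hc hcY
    obtain ⟨z, hz, hz'⟩ := aut_Q2' h hN (normalises A hR hc) hcY
    have hzA : z ∈ AA σ x := gen_mono (Set.subset_univ _) hz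
    obtain ⟨u, hu, v, hv, rfl⟩ := mem_pair h (k := 4) (l := 6) (by decide) (by decide) hz
    refine ⟨v, hv, u, hu, ?_⟩
    have huv : u * v = v * u := by
      obtain ⟨b, hb, rfl⟩ := h.mem_gen_singleton.1 hu
      obtain ⟨t, ht, rfl⟩ := h.mem_gen_singleton.1 hv
      exact (h.comm_long (k := 4) (by decide) (by decide) hb ht).eq
    rw [← huv]
    exact C1_of_cent hzA A.comm hc hz'
  YPr := arc_sub (by decide)
  YPs := arc_sub (by decide)
  YPd := arc_sub (by decide)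
  K1 := by
    intro c hc h2 h6 hY
    have hQ : gen σ x (arc 2 5) ≤ centralizer ({c} : Set G) := by
      refine gen26 h ?_ ?_ ?_ <;>
      · intro v hv
        rw [mem_centralizer_iff]
        rintro _ rfl
        first | exact h2 v hv | exact h6 v hv | exact hY v hv
    obtain ⟨z, hz, hz'⟩ := aut_Q1 h hN (normalises A hR hc) fun v hv =>
      mem_centralizer_iff.1 (hQ hv) c (Set.mem_singleton c)
    exact ⟨z, hz, C1_of_cent (gen_mono (Set.subset_univ _) hz) A.comm hc hz'⟩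

end Cfsg.Agent.OddHalf.DblR.HexK
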