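import Cfsg.Agent.HexStart.HexLong
import Cfsg.Agent.HexStart.HexComm
import Cfsg.Agent.OddHalf.DblR.HexK.Tri

/-!
# `G₂(q)`, `³D₄(q)`: coordinates on `Q₁ / X₄`

`Co σ x v b c e f` : `v ∈ Q₁ = X₂X₃X₄X₅X₆` has coordinates `b c e f` modulo `X₄`.
-/

set_option autoImplicit false
set_option maxHeartbeats 400000

namespace Cfsg.Agent.OddHalf.DblR.HexK

open Subgroup Cfsg.Agent.StdRank2.Hex Cfsg.Agent.StdRank2.Hex.HexTwo Cfsg.Agent.SplitTwo
open scoped commutatorElement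

variable {E : Type*} [Field E] {σ : E ≃+* E} {G : Type*} [Group G] {x : ZMod 12 → E → G}

/-- coordinates of `v` modulo `X₄` -/
def Co (σ : E ≃+* E) (x : ZMod 12 → E → G) (v : G) (b c e f : E) : Prop :=
  σ b = b ∧ σ f = f ∧ ∃ d, σ d = d ∧ v = q x b c d e f

theorem Co.mem {v : G} {b c e f : E} (hv : Co σ x v b c e f) : v ∈ gen σ x (arc 2 5) := by
  obtain ⟨hb, hf, d, hd, rfl⟩ := hv
  exact q_mem hb hd hf

variable (h : HexTwo σ x)
include h

theorem exists_co {v : G} (hv : v ∈ gen σ x (arc 2 5)) : ∃ b c e f, Co σ x v b c e f := by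
  obtain ⟨b, c, d, e, f, hb, hd, hf, rfl⟩ := h.mem_Q1.1 hv
  exact ⟨b, c, e, f, hb, hf, d, hd, rfl⟩

theorem Co.unique {v : G} {b c e f b' c' e' f' : E} (h1 : Co σ x v b c e f) (h2 : Co σ x v b' c' e' f') :
    b = b' ∧ c = c' ∧ e = e' ∧ f = f' := by
  obtain ⟨hb, hf, d, hd, rfl⟩ := h1
  obtain ⟨hb', hf', d', hd', e1⟩ := h2
  obtain ⟨a1, a2, -, a4, a5⟩ := h.q_inj hb hd hf hb' hd' hf' e1
  exact ⟨a1, a2, a4, a5⟩

theorem Co.mul {v w : G} {b c e f b' c' e' f' : E} (h1 : Co σ x v b c e f) (h2 : Co σ x w b' c' e' f') :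
    Co σ x (v * w) (b + b') (c + c') (e + e') (f + f') := by
  obtain ⟨hb, hf, d, hd, rfl⟩ := h1
  obtain ⟨hb', hf', d', hd', rfl⟩ := h2
  refine ⟨by rw [map_add, hb, hb'], by rw [map_add, hf, hf'], _, ?_, h.q_mul hb hd hf hb' hd' hf'⟩
  rw [map_add, map_add, map_add, map_mul, hd, hd', hb', hf, h.fix_trc]

theorem Co.x4 {v z : G} (hz : z ∈ gen σ x {4}) {b c e f : E} (h1 : Co σ x v b c e f) : Co σ x (z * v) b c e f := by
  obtain ⟨t, ht, rfl⟩ := h.mem_gen_singleton.1 hz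
  have h2 : Co σ x (x 4 t) 0 0 0 0 := ⟨map_zero σ, map_zero σ, t, ht (by decide), (h.q4 t).symm⟩
  have := h2.mul h h1
  simpa using this

theorem Co.conj1 (a : E) {v : G} {b c e f : E} (h1 : Co σ x v b c e f) :
    Co σ x (x 1 a * v * (x 1 a)⁻¹) (b + trc σ a c + trc σ (shp σ a) e + f * nrm σ a) (c + crs σ a e + f * shp σ a)
      (e + f * a) f := by
  obtain ⟨hb, hf, d, hd, rfl⟩ := h1
  refine ⟨?_, hf, d + trc σ a (shp σ e) + f ^ 2 * nrm σ a + f * trc σ (shp σ a) e, ?_, ?_⟩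
  · rw [map_add, map_add, map_add, map_mul, h.fix_trc, h.fix_trc, h.fix_nrm, hb, hf]
  · rw [map_add, map_add, map_add, map_mul, map_mul, h.fix_trc, h.fix_trc, h.fix_nrm, map_pow, hd, hf]
  · rw [h.x1_q a hb hd hf, mul_inv_cancel_right]

theorem Co.conjn {v : G} {b c e f : E} (h1 : Co σ x v b c e f) :
    Co σ x (nn x 1 * v * (nn x 1)⁻¹) f e c b := by
  obtain ⟨hb, hf, d, hd, rfl⟩ := h1
  refine ⟨hf, hb, d + b * f + trc σ e c, ?_, ?_⟩
  · rw [map_add, map_add, map_mul, h.fix_trc, hb, hf, hd]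
  · rw [h.nn1_q hb hd hf, mul_inv_cancel_right]

theorem co_x2 {t : E} (ht : σ t = t) : Co σ x (x 2 t) t 0 0 0 := ⟨ht, map_zero σ, 0, map_zero σ, (h.q2 t).symm⟩

theorem co_x3 (c : E) : Co σ x (x 3 c) 0 c 0 0 := ⟨map_zero σ, map_zero σ, 0, map_zero σ, (h.q3 c).symm⟩

theorem co_x5 (e : E) : Co σ x (x 5 e) 0 0 e 0 := ⟨map_zero σ, map_zero σ, 0, map_zero σ, (h.q5 e).symm⟩

theorem co_x6 {t : E} (ht : σ t = t) : Co σ x (x 6 t) 0 0 0 t := ⟨map_zero σ, ht, 0, map_zero σ, (h.q6 t).symm⟩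

theorem co_one : Co σ x 1 0 0 0 0 := ⟨map_zero σ, map_zero σ, 0, map_zero σ, h.q_zero.symm⟩

theorem comm_Q {v w : G} (hv : v ∈ gen σ x (arc 2 5)) (hw : w ∈ gen σ x (arc 2 5)) : ⁅v, w⁆ ∈ gen σ x {4} :=
  h.comm_Q1 (k := 4) (by decide) hv hw

theorem Co.conjQ {v w : G} (hw : w ∈ gen σ x (arc 2 5)) {b c e f : E} (h1 : Co σ x v b c e f) :
    Co σ x (w * v * w⁻¹) b c e f := by
  have e1 : w * v * w⁻¹ = ⁅w, v⁆ * v := by rw [commutatorElement_def]; group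
  rw [e1]
  exact h1.x4 h (comm_Q h hw h1.mem)

theorem Co.of_conjQ {v w : G} (hw : w ∈ gen σ x (arc 2 5)) {b c e f : E} (h1 : Co σ x (w * v * w⁻¹) b c e f) :
    Co σ x v b c e f := by
  have := h1.conjQ h (inv_mem hw)
  have e1 : w⁻¹ * (w * v * w⁻¹) * w⁻¹⁻¹ = v := by group
  rwa [e1] at this

/-- the commutator form of `Q₁` -/
def BB (σ : E ≃+* E) (b c e f b' c' e' f' : E) : E := b' * f + b * f' + trc σ c' e + trc σ c e'

theorem conj_Co {v w : G} {b c e f b' c' e' f' : E} (h1 : Co σ x v b c e f) (h2 : Co σ x w b' c' e' f') :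
    v * w * v⁻¹ = x 4 (BB σ b c e f b' c' e' f') * w := by
  obtain ⟨hb, hf, d, hd, rfl⟩ := h1
  obtain ⟨hb', hf', d', hd', rfl⟩ := h2
  have hB : σ (BB σ b c e f b' c' e' f') = BB σ b c e f b' c' e' f' := by
    unfold BB
    rw [map_add, map_add, map_add, map_mul, map_mul, h.fix_trc, h.fix_trc, hb, hb', hf, hf']
  rw [mul_inv_eq_iff_eq_mul, h.q_mul hb hd hf hb' hd' hf', mul_assoc, h.q_mul hb' hd' hf' hb hd hf,
    ← h.q4 (BB σ b c e f b' c' e' f')]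
  have hD : σ (d' + d + b * f' + trc σ c e') = d' + d + b * f' + trc σ c e' := by
    rw [map_add, map_add, map_add, map_mul, h.fix_trc, hd, hd', hb, hf']
  rw [h.q_mul (map_zero σ) hB (map_zero σ) (by rw [map_add, hb, hb']) hD (by rw [map_add, hf, hf'])]
  have e2 : trc σ (c' + c) 0 = 0 := trc_zero_right _
  have key : d + d' + b' * f + trc σ c' e =
      BB σ b c e f b' c' e' f' + (d' + d + b * f' + trc σ c e') + (b' + b) * 0 + trc σ (c' + c) 0 := by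
    rw [e2]
    unfold BB
    have e3 : b * f' + b * f' = 0 := h.add_self _
    have e4 : trc σ c e' + trc σ c e' = 0 := h.add_self _
    linear_combination (-1 : E) * e3 - e4
  rw [key]
  congr 1 <;> ring

end Cfsg.Agent.OddHalf.DblR.HexK
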