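import Cfsg.Agent.OddHalf.DblR.HexK.KFour

/-!
# `G₂(q)`, `³D₄(q)`: elements which act trivially on `P₁ / Q₁` and on `X₄`

`exists_q` : such an element acts on `P` like an element of `Q`.
-/

set_option autoImplicit false
set_option maxHeartbeats 400000

namespace Cfsg.Agent.OddHalf.DblR.HexK

open Subgroup Cfsg.Agent.StdRank2.Hex Cfsg.Agent.StdRank2.Hex.HexTwo Cfsg.Agent.SplitTwo
open scoped commutatorElement

variable {E : Type*} [Field E] {σ : E ≃+* E}

/-! ### Field lemmas -/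

def LinF (σ : E ≃+* E) (g : E → E) : Prop := ∀ t, σ t = t → g t = t * g 1

def AddF (σ : E ≃+* E) (g : E → E) : Prop := ∀ s t, σ s = s → σ t = t → g (s + t) = g s + g t

theorem LinF.of_exists {g : E → E} (H : ∃ κ, ∀ t, σ t = t → g t = t * κ) : LinF σ g := by
  obtain ⟨κ, H⟩ := H
  have h1 := H 1 (map_one σ)
  rw [one_mul] at h1
  intro t ht
  rw [H t ht, h1]

theorem lin_of (two : (2 : E) = 0) {g2 g3 g5 : E → E} (a2 : AddF σ g2) (a3 : AddF σ g3)
    (H : ∀ s, σ s = s → s ≠ 0 → ∃ κ, ∀ t, σ t = t → g2 (t * s ^ 2) + g3 (t * s) + g5 t = t * κ)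
    {ω : E} (hω : σ ω = ω) (hω0 : ω ≠ 0) (hω1 : ω ≠ 1) : LinF σ g2 ∧ LinF σ g3 ∧ LinF σ g5 := by
  have hw1 : ω + 1 ≠ 0 := fun h0 => hω1 (by linear_combination h0 - two)
  have hwf : σ (ω + 1) = ω + 1 := by rw [map_add, hω, map_one]
  obtain ⟨k1, K1⟩ := H 1 (map_one σ) one_ne_zero
  obtain ⟨k2, K2⟩ := H ω hω hω0
  obtain ⟨k3, K3⟩ := H (ω + 1) hwf hw1
  have e23 : ∀ t, σ t = t → g2 t + g3 t = t * (k2 + k3) := by
    intro t ht
    have h1 := K2 t ht
    have h2 := K3 t ht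
    have e1 : t * (ω + 1) ^ 2 = t * ω ^ 2 + t := by linear_combination t * ω * two
    have e2 : t * (ω + 1) = t * ω + t := by ring
    rw [e1, e2, a2 _ _ (by rw [map_mul, map_pow, ht, hω]) ht, a3 _ _ (by rw [map_mul, ht, hω]) ht] at h2
    linear_combination h1 + h2 - (g2 (t * ω ^ 2) + g3 (t * ω) + g5 t) * two
  have e5 : ∀ t, σ t = t → g5 t = t * (k1 + (k2 + k3)) := by
    intro t ht
    have h1 := K1 t ht
    rw [one_pow, mul_one] at h1
    have h2 := e23 t ht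
    linear_combination h1 + h2 - (g2 t + g3 t) * two
  have e3 : ∀ t, σ t = t → g3 t = g2 t + t * (k2 + k3) := by
    intro t ht
    linear_combination e23 t ht - g2 t * two
  have es : ∀ s, σ s = s → s ≠ 0 → ∃ m, ∀ t, σ t = t → g2 (t * s) + g2 t = t * m := by
    intro s hs hs0
    obtain ⟨k, K⟩ := H s hs hs0
    refine ⟨(k + s * (k2 + k3) + (k1 + (k2 + k3))) / s, fun t ht => ?_⟩
    have hts : σ (t / s) = t / s := by rw [map_div₀, ht, hs]
    have h1 := K (t / s) hts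
    have f1 : t / s * s ^ 2 = t * s := by field_simp
    have f2 : t / s * s = t := by field_simp
    rw [f1, f2, e3 t ht, e5 _ hts] at h1
    field_simp at h1 ⊢
    linear_combination h1 - (t * (k2 + k3) * s + t * (k1 + (k2 + k3))) * two
  obtain ⟨m1, M1⟩ := es ω hω hω0
  obtain ⟨m2, M2⟩ := es (ω + 1) hwf hw1
  have e2 : ∃ κ, ∀ t, σ t = t → g2 t = t * κ := by
    refine ⟨m1 + m2, fun t ht => ?_⟩
    have h1 := M1 t ht
    have h2 := M2 t ht
    have f1 : t * (ω + 1) = t * ω + t := by ring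
    rw [f1, a2 _ _ (by rw [map_mul, ht, hω]) ht] at h2
    linear_combination h1 + h2 - (g2 (t * ω) + g2 t) * two
  refine ⟨LinF.of_exists e2, LinF.of_exists ?_, LinF.of_exists ⟨_, e5⟩⟩
  obtain ⟨κ, hκ⟩ := e2
  refine ⟨κ + (k2 + k3), fun t ht => ?_⟩
  rw [e3 t ht, hκ t ht]; ring

/-- linear forms are given by the trace form -/
theorem exists_trace_rep [Finite E] (hc : ∀ a, σ (σ (σ a)) = a) (hnd : ∀ a, (∀ y, trc σ a y = 0) → a = 0)
    {g : E → E} (hadd : ∀ a b, g (a + b) = g a + g b) (hlin : ∀ t a, σ t = t → g (t * a) = t * g a)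
    (hfix : ∀ a, σ (g a) = g a) : ∃ c, ∀ a, trc σ c a = g a := by
  let F : Subfield E := RingHom.eqLocusField (σ : E →+* E) (RingHom.id E)
  have hF : ∀ a : E, a ∈ F ↔ σ a = a := fun a => Iff.rfl
  have hft : ∀ t : F, σ (t : E) = t := fun t => (hF t).1 t.2
  have hsm : ∀ (t : F) (a : E), t • a = (t : E) * a := fun t a => rfl
  let B : E →ₗ[F] (E →ₗ[F] F) := LinearMap.mk₂ F (fun a b => (⟨trc σ a b, trc_fix hc a b⟩ : F))
    (fun a b c => Subtype.ext (trc_add_left a b c))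
    (fun t a b => Subtype.ext (by
      change trc σ (t • a) b = (t : E) * trc σ a b
      rw [hsm, trc_smul_left (hft t)]))
    (fun a b c => Subtype.ext (trc_add_right a b c))
    (fun t a b => Subtype.ext (by
      change trc σ a (t • b) = (t : E) * trc σ a b
      rw [hsm, trc_smul_right (hft t)]))
  have hB : Function.Injective B := by
    rw [injective_iff_map_eq_zero]
    intro a ha
    apply hnd
    intro y
    have h1 : B a y = 0 := by rw [ha]; rfl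
    exact congrArg Subtype.val h1
  have hfin : Module.Finite F E := Module.Finite.of_finite
  have hs : Function.Surjective B :=
    (LinearMap.injective_iff_surjective_of_finrank_eq_finrank (Subspace.dual_finrank_eq (K := F) (V := E)).symm).1 hB
  let g' : E →ₗ[F] F :=
    { toFun := fun a => ⟨g a, hfix a⟩
      map_add' := fun a b => Subtype.ext (hadd a b)
      map_smul' := fun t a => Subtype.ext (by
        change g (t • a) = (t : E) * g a
        rw [hsm, hlin t a (hft t)]) }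
  obtain ⟨c, hc'⟩ := hs g'
  refine ⟨c, fun a => ?_⟩
  have h1 : B c a = g' a := by rw [hc']
  exact congrArg Subtype.val h1

theorem comm_central {G : Type*} [Group G] {z1 z2 p r : G} (h1 : z1 * p = p * z1) (h2 : z1 * r = r * z1)
    (h3 : z2 * p = p * z2) (h4 : z2 * r = r * z2) (h5 : z1 * z2 = z2 * z1) : ⁅z1 * p, z2 * r⁆ = ⁅p, r⁆ := by
  have c1 : Commute z1 p := h1
  have c2 : Commute z1 r := h2
  have c3 : Commute z2 p := h3
  have c4 : Commute z2 r := h4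
  have c5 : Commute z1 z2 := h5
  have c6 : Commute z1 (z2 * (p * r * p⁻¹)) := c5.mul_right ((c1.mul_right c2).mul_right c1.inv_right)
  have c7 : Commute z2 (p * r * p⁻¹ * r⁻¹) := ((c3.mul_right c4).mul_right c3.inv_right).mul_right c4.inv_right
  calc ⁅z1 * p, z2 * r⁆ = z1 * ((p * z2) * r * p⁻¹) * z1⁻¹ * (r⁻¹ * z2⁻¹) := by
        rw [commutatorElement_def, mul_inv_rev, mul_inv_rev]; group
    _ = z1 * (z2 * (p * r * p⁻¹)) * z1⁻¹ * (r⁻¹ * z2⁻¹) := by rw [← h3]; group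
    _ = z2 * (p * r * p⁻¹ * r⁻¹) * z2⁻¹ := by rw [c6.eq]; group
    _ = ⁅p, r⁆ := by rw [c7.eq, commutatorElement_def]; group

variable {G : Type*} [Group G] {x : ZMod 12 → E → G} (h : HexTwo σ x)
include h

theorem Co.inv {v : G} {b c e f : E} (h1 : Co σ x v b c e f) : Co σ x v⁻¹ b c e f := by
  obtain ⟨b', c', e', f', h2⟩ := exists_co h (inv_mem h1.mem)
  have h3 := h1.mul h h2
  rw [mul_inv_cancel] at h3
  obtain ⟨a1, a2, a3, a4⟩ := h3.unique h (co_one h)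
  have hh : ∀ u v : E, u + v = 0 → v = u := fun u v e => by
    have := h.add_self u
    linear_combination e - this
  rw [hh _ _ a1, hh _ _ a2, hh _ _ a3, hh _ _ a4] at h2
  exact h2

section

variable {y : G} (hP : ∀ p ∈ gen σ x (arc 1 7), y * p * y⁻¹ * p⁻¹ ∈ gen σ x (arc 2 5))
  (hX : ∀ z ∈ gen σ x {4}, y * z = z * y)
include hP hX

omit h hP in
theorem hX_conj : ∀ z ∈ gen σ x {4}, y * z * y⁻¹ ∈ gen σ x {4} := fun z hz => by
  rw [hX z hz, mul_inv_cancel_right]; exact hz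

/-- `y` acts trivially on `Q / X₄` -/
theorem co_conj (hg : NormGen σ) {ω : E} (hω : σ ω = ω) (hω0 : ω ≠ 0) (hω1 : ω ≠ 1) :
    (∀ t, σ t = t → Co σ x (y * x 2 t * y⁻¹) t 0 0 0) ∧ (∀ c, Co σ x (y * x 3 c * y⁻¹) 0 c 0 0) ∧
      (∀ c, Co σ x (y * x 5 c * y⁻¹) 0 0 c 0) ∧ (∀ t, σ t = t → Co σ x (y * x 6 t * y⁻¹) 0 0 0 t) := by
  obtain ⟨l, hlf, hl0, h2, h6, h35, h4⟩ := exists_lam h hP hg hω hω0 hω1 (hX_conj hX)
  have hl : l = 1 := by
    have h1 := h4 1 (map_one σ)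
    rw [hX _ (x_mem_gen (Set.mem_singleton _) (ok_one σ 4)), mul_inv_cancel_right] at h1
    have h3 := (h.x_inj (k := 4) (ok_one σ 4) (ok_of_fix 4 (by rw [map_mul, map_mul, hlf, map_one]))).1 h1
    rw [mul_one] at h3
    exact h.sq_eq_one h3.symm
  subst hl
  simp only [one_mul] at h2 h6 h35
  have hw1 : 1 + ω ≠ 0 := fun h0 => hω1 (by have := h.add_self (1 : E); linear_combination h0 - this)
  have h3 : ∀ c, Co σ x (y * x 3 c * y⁻¹) 0 c 0 0 := by
    intro c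
    by_cases hc : c = 0
    · subst hc
      rw [h.x_zero, mul_one, mul_inv_cancel]
      exact co_one h
    set t : E := nrm σ c / (1 + ω) with ht
    have htf : σ t = t := by rw [ht, map_div₀, h.fix_nrm, map_add, map_one, hω]
    have htw : σ (t / ω) = t / ω := by rw [map_div₀, htf, hω]
    have r1 := h35 t c⁻¹ htf
    have r2 := (h35 (t / ω) (ω * c⁻¹) htw)
    have e1 : t / ω * shp σ (ω * c⁻¹) = t * ω * shp σ c⁻¹ := by
      rw [shp_fix_mul h hω]; field_simp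
    have e2 : t / ω * (ω * c⁻¹) = t * c⁻¹ := by field_simp
    rw [e1, e2] at r2
    have r3 := r1.mul h (r2.inv h)
    have e3 : y * (x 3 (t * shp σ c⁻¹) * x 5 (t * c⁻¹)) * y⁻¹ * (y * (x 3 (t * ω * shp σ c⁻¹) * x 5 (t * c⁻¹)) * y⁻¹)⁻¹
        = y * (x 3 (t * shp σ c⁻¹) * (x 3 (t * ω * shp σ c⁻¹))⁻¹) * y⁻¹ := by group
    have hs : shp σ c ≠ 0 := shp_ne_zero hc
    have hsi : shp σ c⁻¹ = (shp σ c)⁻¹ := by unfold shp; rw [map_inv₀, map_inv₀, mul_inv]
    have e4 : t * shp σ c⁻¹ + t * ω * shp σ c⁻¹ = c := by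
      rw [ht, hsi, nrm_eq]; field_simp
    rw [e3, h.x_inv (ok_odd (by decide) _), ← h.add 3 _ _ (ok_odd (by decide) _) (ok_odd (by decide) _), e4] at r3
    have e5 : (0 : E) + 0 = 0 := add_zero 0
    have e6 : t * c⁻¹ + t * c⁻¹ = 0 := h.add_self _
    rw [e5, e6] at r3
    exact r3
  refine ⟨h2, h3, fun c => ?_, h6⟩
  have r := h.refl1 3 c (ok_odd (by decide) _)
  rw [show (8 - 3 : ZMod 12) = 5 by decide] at r
  rw [← r, act_iff h hP nn1_P]
  exact (h3 c).conjn h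

/-- `y v y⁻¹ = x₄(s) v` -/
def Ps (σ : E ≃+* E) (x : ZMod 12 → E → G) (y v : G) (s : E) : Prop :=
  v ∈ gen σ x (arc 2 5) ∧ σ s = s ∧ y * v * y⁻¹ = x 4 s * v

omit hP hX in
theorem Ps.unique {v : G} {s t : E} (h1 : Ps σ x y v s) (h2 : Ps σ x y v t) : s = t := by
  have := h1.2.2.symm.trans h2.2.2
  exact (h.x_inj (ok_of_fix 4 h1.2.1) (ok_of_fix 4 h2.2.1)).1 (mul_right_cancel this)

omit hP hX in
theorem X4_Q {v : G} (hv : v ∈ gen σ x (arc 2 5)) {s : E} (hs : σ s = s) : x 4 s * v = v * x 4 s :=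
  (h.comm_gen_long (k := 4) (by decide) (ok_of_fix 4 hs)
    (arc_sub (k := 2) (l := 4 - 3) (m := 5) (n := 7) (by decide) hv)).eq

omit hP hX in
theorem Ps.mul {v w : G} {s t : E} (h1 : Ps σ x y v s) (h2 : Ps σ x y w t) : Ps σ x y (v * w) (s + t) := by
  refine ⟨mul_mem h1.1 h2.1, by rw [map_add, h1.2.1, h2.2.1], ?_⟩
  calc y * (v * w) * y⁻¹ = (y * v * y⁻¹) * (y * w * y⁻¹) := by group
    _ = x 4 s * (v * x 4 t) * w := by rw [h1.2.2, h2.2.2]; group
    _ = x 4 (s + t) * (v * w) := by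
      rw [← X4_Q h h1.1 h2.2.1, h.add 4 s t (ok_of_fix 4 h1.2.1) (ok_of_fix 4 h2.2.1)]; group

omit h hP in
theorem ps_x4 (h : HexTwo σ x) {d : E} (hd : σ d = d) : Ps σ x y (x 4 d) 0 := by
  have hm : x 4 d ∈ gen σ x {4} := x_mem_gen (Set.mem_singleton _) (ok_of_fix 4 hd)
  refine ⟨sing_le h (by decide) hm, map_zero σ, ?_⟩
  rw [hX _ hm, mul_inv_cancel_right, h.x_zero, one_mul]

omit hP hX in
theorem exists_ps {v : G} {b c e f : E} (h1 : Co σ x v b c e f) (h2 : Co σ x (y * v * y⁻¹) b c e f) :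
    ∃ s, Ps σ x y v s := by
  obtain ⟨hb, hf, d, hd, e1⟩ := h1
  obtain ⟨-, -, d', hd', e2⟩ := h2
  have hD : σ (d' + d) = d' + d := by rw [map_add, hd, hd']
  refine ⟨d' + d, by rw [e1]; exact q_mem hb hd hf, hD, ?_⟩
  rw [e2, e1, ← h.q4 (d' + d), h.q_mul (map_zero σ) hD (map_zero σ) hb hd hf, trc_zero_right, ]
  have := h.add_self d
  congr 1
  · ring
  · ring
  · linear_combination -this
  · ring
  · ring

omit hX in
/-- the action of `p ∈ P` -/
theorem Ps.conj (hXc : ∀ z ∈ gen σ x {4}, ∀ p ∈ gen σ x (arc 1 7), p * z = z * p) {p v : G}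
    (hp : p ∈ gen σ x (arc 1 7)) {s : E} (h1 : Ps σ x y v s) {B C E' F' b c e f : E}
    (hw : Co σ x (y * p * y⁻¹ * p⁻¹) B C E' F') (hv : Co σ x (p * v * p⁻¹) b c e f) :
    Ps σ x y (p * v * p⁻¹) (s + BB σ B C E' F' b c e f) := by
  have hB : σ (BB σ B C E' F' b c e f) = BB σ B C E' F' b c e f := by
    unfold BB
    rw [map_add, map_add, map_add, map_mul, map_mul, h.fix_trc, h.fix_trc, hw.1, hw.2.1, hv.1, hv.2.1]
  have hxs : x 4 s ∈ gen σ x {4} := x_mem_gen (Set.mem_singleton _) (ok_of_fix 4 h1.2.1)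
  refine ⟨hv.mem, by rw [map_add, h1.2.1, hB], ?_⟩
  have hwP : y * p * y⁻¹ * p⁻¹ ∈ gen σ x (arc 1 7) := arc_sub (k := 2) (l := 1) (m := 5) (n := 7) (by decide) hw.mem
  set w := y * p * y⁻¹ * p⁻¹ with hwd
  calc y * (p * v * p⁻¹) * y⁻¹ = w * (p * (y * v * y⁻¹) * p⁻¹) * w⁻¹ := by rw [hwd]; group
    _ = w * (p * x 4 s) * v * p⁻¹ * w⁻¹ := by rw [h1.2.2]; group
    _ = (w * x 4 s) * (p * v * p⁻¹) * w⁻¹ := by rw [hXc _ hxs p hp]; group
    _ = x 4 s * (w * (p * v * p⁻¹) * w⁻¹) := by rw [hXc _ hxs w hwP]; group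
    _ = x 4 (s + BB σ B C E' F' b c e f) * (p * v * p⁻¹) := by
      rw [conj_Co h hw hv, h.add 4 _ _ (ok_of_fix 4 h1.2.1) (ok_of_fix 4 hB)]; group

/-- **`y` acts on `P` like an element of `Q`.** -/
theorem exists_q [Finite E] (hg : NormGen σ) {ω : E} (hω : σ ω = ω) (hω0 : ω ≠ 0) (hω1 : ω ≠ 1) :
    ∃ q₀ ∈ gen σ x (arc 2 5), ∀ p ∈ gen σ x (arc 1 7), y * p * y⁻¹ = q₀ * p * q₀⁻¹ := by
  obtain ⟨c2, c3, c5, c6⟩ := co_conj h hP hX hg hω hω0 hω1
  have hXc : ∀ z ∈ gen σ x {4}, ∀ p ∈ gen σ x (arc 1 7), p * z = z * p := fun z hz p hp =>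
    Cfsg.Agent.HexStart.X4_comm h hz hp
  have ex2 : ∀ t : E, ∃ s, σ t = t → Ps σ x y (x 2 t) s := fun t => by
    by_cases ht : σ t = t
    · obtain ⟨s, hs⟩ := exists_ps h (co_x2 h ht) (c2 t ht)
      exact ⟨s, fun _ => hs⟩
    · exact ⟨0, fun h0 => absurd h0 ht⟩
  have ex6 : ∀ t : E, ∃ s, σ t = t → Ps σ x y (x 6 t) s := fun t => by
    by_cases ht : σ t = t
    · obtain ⟨s, hs⟩ := exists_ps h (co_x6 h ht) (c6 t ht)
      exact ⟨s, fun _ => hs⟩
    · exact ⟨0, fun h0 => absurd h0 ht⟩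
  have ex3 : ∀ c : E, ∃ s, Ps σ x y (x 3 c) s := fun c => exists_ps h (co_x3 h c) (c3 c)
  have ex5 : ∀ c : E, ∃ s, Ps σ x y (x 5 c) s := fun c => exists_ps h (co_x5 h c) (c5 c)
  choose p2 hp2 using ex2
  choose p6 hp6 using ex6
  choose p3 hp3 using ex3
  choose p5 hp5 using ex5
  have add2 : AddF σ p2 := fun s t hs ht => by
    have h1 := (hp2 s hs).mul h (hp2 t ht)
    rw [← h.add 2 s t (ok_of_fix 2 hs) (ok_of_fix 2 ht)] at h1
    exact (hp2 _ (by rw [map_add, hs, ht])).unique h h1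
  have add3 : ∀ a b, p3 (a + b) = p3 a + p3 b := fun a b => by
    have h1 := (hp3 a).mul h (hp3 b)
    rw [← h.add 3 a b (ok_odd (by decide) _) (ok_odd (by decide) _)] at h1
    exact (hp3 _).unique h h1
  have add5 : ∀ a b, p5 (a + b) = p5 a + p5 b := fun a b => by
    have h1 := (hp5 a).mul h (hp5 b)
    rw [← h.add 5 a b (ok_odd (by decide) _) (ok_odd (by decide) _)] at h1
    exact (hp5 _).unique h h1
  -- equation (3)
  have eq3 : ∀ a, ∃ κ, ∀ t, σ t = t → p2 (t * nrm σ a) + p3 (t * shp σ a) + p5 (t * a) = t * κ := by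
    intro a
    obtain ⟨B, C, E', F', hw⟩ := exists_co h (hP _ (x1_P a))
    have hF' : F' = 0 := by
      have h1 : Co σ x (x 1 a * x 2 1 * (x 1 a)⁻¹) 1 0 0 0 := by
        rw [h.s12 a (map_one σ), mul_inv_cancel_right]; exact co_x2 h (map_one σ)
      have h2 := Ps.conj h hP hXc (x1_P a) (hp2 1 (map_one σ)) hw h1
      rw [h.s12 a (map_one σ), mul_inv_cancel_right] at h2
      have h3 := (hp2 1 (map_one σ)).unique h h2
      unfold BB at h3
      rw [trc_zero_left, trc_zero_right] at h3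
      linear_combination -h3
    subst hF'
    refine ⟨B + trc σ (shp σ a) E' + trc σ C a, fun t ht => ?_⟩
    have h2 : Co σ x (x 1 a * x 6 t * (x 1 a)⁻¹) (t * nrm σ a) (t * shp σ a) (t * a) t := by
      have := (co_x6 h ht).conj1 h a
      simpa [trc_zero_right, crs_zero_right] using this
    have h3 := Ps.conj h hP hXc (x1_P a) (hp6 t ht) hw h2
    obtain ⟨-, -, d, hd, e2⟩ := h2
    have e3 : x 1 a * x 6 t * (x 1 a)⁻¹ = x 2 (t * nrm σ a) * (x 4 d * (x 3 (t * shp σ a) * x 5 (t * a))) * x 6 t := by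
      rw [e2]
      unfold q
      have := h.s34 (t * shp σ a) hd
      calc x 2 (t * nrm σ a) * x 3 (t * shp σ a) * x 4 d * x 5 (t * a) * x 6 t
          = x 2 (t * nrm σ a) * (x 3 (t * shp σ a) * x 4 d) * x 5 (t * a) * x 6 t := by group
        _ = _ := by rw [this]; group
    have h4 := ((hp2 (t * nrm σ a) (by rw [map_mul, ht, h.fix_nrm])).mul h ((ps_x4 hX h hd).mul h ((hp3 (t * shp σ a)).mul h
      (hp5 (t * a))))).mul h (hp6 t ht)
    rw [← e3] at h4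
    have h5 := h4.unique h h3
    unfold BB at h5
    rw [trc_smul_left ht, trc_smul_right ht] at h5
    linear_combination h5
  -- linearity
  have key : ∀ a, (∀ t, σ t = t → p2 (t * nrm σ a) = t * p2 (nrm σ a)) ∧ (∀ t, σ t = t → p3 (t * shp σ a) = t * p3 (shp σ a)) ∧
      (∀ t, σ t = t → p5 (t * a) = t * p5 a) := by
    intro a
    have ha2 : AddF σ fun t => p2 (t * nrm σ a) := fun s t hs ht => by
      show p2 ((s + t) * nrm σ a) = p2 (s * nrm σ a) + p2 (t * nrm σ a)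
      rw [add_mul, add2 _ _ (by rw [map_mul, hs, h.fix_nrm]) (by rw [map_mul, ht, h.fix_nrm])]
    have ha3 : AddF σ fun t => p3 (t * shp σ a) := fun s t _ _ => by
      show p3 ((s + t) * shp σ a) = p3 (s * shp σ a) + p3 (t * shp σ a)
      rw [add_mul, add3]
    obtain ⟨l2, l3, l5⟩ := lin_of (σ := σ) h.two (g2 := fun t => p2 (t * nrm σ a)) (g3 := fun t => p3 (t * shp σ a))
      (g5 := fun t => p5 (t * a)) ha2 ha3 (fun s hs hs0 => by
        obtain ⟨κ, hκ⟩ := eq3 (s * a)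
        refine ⟨κ / s, fun t ht => ?_⟩
        have h1 := hκ (t / s) (by rw [map_div₀, ht, hs])
        rw [nrm_fix_mul h hs, shp_fix_mul h hs] at h1
        have e1 : t / s * (s ^ 3 * nrm σ a) = t * s ^ 2 * nrm σ a := by field_simp
        have e2 : t / s * (s ^ 2 * shp σ a) = t * s * shp σ a := by field_simp
        have e3 : t / s * (s * a) = t * a := by field_simp
        rw [e1, e2, e3] at h1
        rw [h1]; ring) hω hω0 hω1
    refine ⟨fun t ht => ?_, fun t ht => ?_, fun t ht => ?_⟩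
    · have := l2 t ht; simpa using this
    · have := l3 t ht; simpa using this
    · have := l5 t ht; simpa using this
  have lin5 : ∀ t a, σ t = t → p5 (t * a) = t * p5 a := fun t a ht => (key a).2.2 t ht
  have lin3 : ∀ t c, σ t = t → p3 (t * c) = t * p3 c := by
    intro t c ht
    by_cases hc : c = 0
    · subst hc
      have h0 : p3 0 = 0 := by
        have := add3 0 0
        rw [add_zero] at this
        exact left_eq_add.1 this
      rw [mul_zero, h0, mul_zero]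
    have hs : shp σ c ≠ 0 := shp_ne_zero hc
    have hsi : shp σ c⁻¹ = (shp σ c)⁻¹ := by unfold shp; rw [map_inv₀, map_inv₀, mul_inv]
    have e1 : c = nrm σ c * shp σ c⁻¹ := by rw [hsi, nrm_eq]; field_simp
    have h1 := (key c⁻¹).2.1 (nrm σ c) (h.fix_nrm c)
    have h2 := (key c⁻¹).2.1 (t * nrm σ c) (by rw [map_mul, ht, h.fix_nrm])
    rw [← e1] at h1
    have e2 : t * nrm σ c * shp σ c⁻¹ = t * c := by rw [mul_assoc, ← e1]
    rw [e2] at h2
    rw [h2, h1, mul_assoc]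
  have lin2 : ∀ t, σ t = t → p2 t = t * p2 1 := by
    intro t ht
    have := (key 1).1 t ht
    rwa [nrm_one, mul_one] at this
  -- `ψ₆`
  obtain ⟨B, C, E', F', hw⟩ := exists_co h (hP _ (nn1_P (σ := σ)))
  have nn_x2 : ∀ t, σ t = t → nn x 1 * x 2 t * (nn x 1)⁻¹ = x 6 t := fun t ht => by
    have := h.refl1 2 t (ok_of_fix 2 ht)
    rwa [show (8 - 2 : ZMod 12) = 6 by decide] at this
  have lin6 : ∀ t, σ t = t → p6 t = t * p6 1 := by
    have h6 : ∀ t, σ t = t → p6 t = p2 t + B * t := by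
      intro t ht
      have h1 : Co σ x (nn x 1 * x 2 t * (nn x 1)⁻¹) 0 0 0 t := by rw [nn_x2 t ht]; exact co_x6 h ht
      have h2 := Ps.conj h hP hXc nn1_P (hp2 t ht) hw h1
      rw [nn_x2 t ht] at h2
      have h3 := (hp6 t ht).unique h h2
      unfold BB at h3
      rw [trc_zero_left, trc_zero_right] at h3
      linear_combination h3
    intro t ht
    rw [h6 t ht, h6 1 (map_one σ), lin2 t ht]
    ring
  -- the element `q₀`
  have hnd : ∀ a, (∀ y, trc σ a y = 0) → a = 0 := fun a ha => h.eq_zero_of_trc ha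
  obtain ⟨C0, hC0⟩ := exists_trace_rep h.cube hnd add5 lin5 (fun a => (hp5 a).2.1)
  obtain ⟨E0, hE0⟩ := exists_trace_rep h.cube hnd add3 lin3 (fun a => (hp3 a).2.1)
  have hB0 : σ (p6 1) = p6 1 := (hp6 1 (map_one σ)).2.1
  have hF0 : σ (p2 1) = p2 1 := (hp2 1 (map_one σ)).2.1
  set q₀ : G := q x (p6 1) C0 0 E0 (p2 1) with hq₀
  have hq0 : Co σ x q₀ (p6 1) C0 E0 (p2 1) := ⟨hB0, hF0, 0, map_zero σ, rfl⟩
  have a2 : ∀ t, σ t = t → y * x 2 t * y⁻¹ = q₀ * x 2 t * q₀⁻¹ := fun t ht => by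
    rw [(hp2 t ht).2.2, conj_Co h hq0 (co_x2 h ht)]
    congr 2
    unfold BB
    rw [trc_zero_left, trc_zero_right, lin2 t ht]; ring
  have a3 : ∀ c, y * x 3 c * y⁻¹ = q₀ * x 3 c * q₀⁻¹ := fun c => by
    rw [(hp3 c).2.2, conj_Co h hq0 (co_x3 h c)]
    congr 2
    unfold BB
    rw [trc_zero_right, trc_comm c E0, hE0]; ring
  have a5 : ∀ c, y * x 5 c * y⁻¹ = q₀ * x 5 c * q₀⁻¹ := fun c => by
    rw [(hp5 c).2.2, conj_Co h hq0 (co_x5 h c)]
    congr 2
    unfold BB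
    rw [trc_zero_left, hC0]; ring
  have a6 : ∀ t, σ t = t → y * x 6 t * y⁻¹ = q₀ * x 6 t * q₀⁻¹ := fun t ht => by
    rw [(hp6 t ht).2.2, conj_Co h hq0 (co_x6 h ht)]
    congr 2
    unfold BB
    rw [trc_zero_left, trc_zero_right, lin6 t ht]; ring
  have a4 : ∀ t, σ t = t → y * x 4 t * y⁻¹ = q₀ * x 4 t * q₀⁻¹ := fun t ht => by
    have hm : x 4 t ∈ gen σ x {4} := x_mem_gen (Set.mem_singleton _) (ok_of_fix 4 ht)
    rw [hX _ hm, mul_inv_cancel_right, ← X4_Q h hq0.mem ht, mul_inv_cancel_right]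
  -- `q₀⁻¹ y` centralises `Q`
  have hQ : ∀ v ∈ gen σ x (arc 2 5), (q₀⁻¹ * y) * v = v * (q₀⁻¹ * y) := by
    have hle : gen σ x (arc 2 5) ≤ centralizer ({q₀⁻¹ * y} : Set G) := by
      refine gen_le fun k hk a ha => ?_
      rw [mem_centralizer_iff]
      rintro _ rfl
      have conv : y * x k a * y⁻¹ = q₀ * x k a * q₀⁻¹ → q₀⁻¹ * y * x k a = x k a * (q₀⁻¹ * y) := by
        intro e1
        calc q₀⁻¹ * y * x k a = q₀⁻¹ * (y * x k a * y⁻¹) * y := by group
          _ = x k a * (q₀⁻¹ * y) := by rw [e1]; group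
      apply conv
      have : ∀ k : ZMod 12, (k - 2).val < 5 → k = 2 ∨ k = 3 ∨ k = 4 ∨ k = 5 ∨ k = 6 := by decide
      rcases this k hk with rfl | rfl | rfl | rfl | rfl
      · exact a2 a (ha (by decide))
      · exact a3 a
      · exact a4 a (ha (by decide))
      · exact a5 a
      · exact a6 a (ha (by decide))
    intro v hv
    exact mem_centralizer_iff.1 (hle hv) _ (Set.mem_singleton _)
  refine ⟨q₀, hq0.mem, ?_⟩
  set y' := q₀⁻¹ * y with hy'
  -- `y' p y'⁻¹ p⁻¹ ∈ X₄`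
  have hz : ∀ p ∈ gen σ x (arc 1 7), y' * p * y'⁻¹ * p⁻¹ ∈ gen σ x {4} := by
    intro p hp
    have hm : y' * p * y'⁻¹ * p⁻¹ ∈ gen σ x (arc 2 5) := by
      have h1 : y' * p * y'⁻¹ * p⁻¹ = q₀⁻¹ * ((y * p * y⁻¹ * p⁻¹) * (p * q₀ * p⁻¹)) := by rw [hy']; group
      rw [h1]
      exact mul_mem (inv_mem hq0.mem) (mul_mem (hP p hp) (Cfsg.Agent.HexStart.P1_Q1 h hp hq0.mem))
    refine h.mem_X4_of_Q1 hm fun v hv => ?_
    have h1 : p⁻¹ * v * p ∈ gen σ x (arc 2 5) := by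
      have := Cfsg.Agent.HexStart.P1_Q1 h (inv_mem hp) hv
      rwa [inv_inv] at this
    have h2 := hQ _ h1
    have h3 := hQ v hv
    have h3' : y'⁻¹ * v = v * y'⁻¹ := by
      calc y'⁻¹ * v = y'⁻¹ * (v * y') * y'⁻¹ := by group
        _ = v * y'⁻¹ := by rw [← h3]; group
    change y' * p * y'⁻¹ * p⁻¹ * v = v * (y' * p * y'⁻¹ * p⁻¹)
    calc y' * p * y'⁻¹ * p⁻¹ * v = y' * p * (y'⁻¹ * (p⁻¹ * v * p)) * p⁻¹ := by group
      _ = y' * p * ((p⁻¹ * v * p) * y'⁻¹) * p⁻¹ := by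
          rw [show y'⁻¹ * (p⁻¹ * v * p) = (p⁻¹ * v * p) * y'⁻¹ by
            calc y'⁻¹ * (p⁻¹ * v * p) = y'⁻¹ * ((p⁻¹ * v * p) * y') * y'⁻¹ := by group
              _ = (p⁻¹ * v * p) * y'⁻¹ := by rw [← h2]; group]
      _ = (y' * v) * p * y'⁻¹ * p⁻¹ := by group
      _ = v * (y' * p * y'⁻¹ * p⁻¹) := by rw [h3]; group
  -- `P` is perfect
  have hfin : ∀ p ∈ gen σ x (arc 1 7), y' * p = p * y' := by
    have hperf : ⁅gen σ x (arc 1 7), gen σ x (arc 1 7)⁆ = gen σ x (arc 1 7) :=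
      Cfsg.Agent.HexStart.P1_perfect h hω0 hω1
    have hle : ⁅gen σ x (arc 1 7), gen σ x (arc 1 7)⁆ ≤ centralizer ({y'} : Set G) := by
      rw [commutator_le]
      intro p hp r hr
      rw [mem_centralizer_iff]
      rintro _ rfl
      have hz1 := hz p hp
      have hz2 := hz r hr
      have e1 : y' * p * y'⁻¹ = (y' * p * y'⁻¹ * p⁻¹) * p := by group
      have e2 : y' * r * y'⁻¹ = (y' * r * y'⁻¹ * r⁻¹) * r := by group
      have f1 : ⁅y' * p * y'⁻¹, y' * r * y'⁻¹⁆ = ⁅p, r⁆ := by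
        rw [e1, e2]
        exact comm_central (hXc _ hz1 p hp).symm (hXc _ hz1 r hr).symm (hXc _ hz2 p hp).symm (hXc _ hz2 r hr).symm
          (hXc _ hz1 _ (sing_le h (by decide) hz2)).symm
      calc y' * ⁅p, r⁆ = ⁅y' * p * y'⁻¹, y' * r * y'⁻¹⁆ * y' := by
            rw [commutatorElement_def, commutatorElement_def]; group
        _ = ⁅p, r⁆ * y' := by rw [f1]
    rw [hperf] at hle
    intro p hp
    exact mem_centralizer_iff.1 (hle hp) y' (Set.mem_singleton _)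
  intro p hp
  have := hfin p hp
  have e1 : y = q₀ * y' := by rw [hy']; group
  calc y * p * y⁻¹ = q₀ * (y' * p) * y'⁻¹ * q₀⁻¹ := by rw [e1]; group
    _ = q₀ * p * q₀⁻¹ := by rw [this]; group

end

end Cfsg.Agent.OddHalf.DblR.HexK
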