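import Cfsg.Agent.OddHalf.DblR.HexK.Co

/-!
# `G₂(q)`, `³D₄(q)`: elements which act trivially on `P₁ / Q₁`

`P = ⟨X₁, …, X₇⟩`, `Q = X₂X₃X₄X₅X₆`. Let `[e, P] ≤ Q`, `e` normalises `X₄`. Then `e` acts on `Q / X₄` as a scalar of the
fixed field.
-/

set_option autoImplicit false
set_option maxHeartbeats 400000

namespace Cfsg.Agent.OddHalf.DblR.HexK

open Subgroup Cfsg.Agent.StdRank2.Hex Cfsg.Agent.StdRank2.Hex.HexTwo Cfsg.Agent.SplitTwo
open scoped commutatorElement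

variable {E : Type*} [Field E] {σ : E ≃+* E} {G : Type*} [Group G] {x : ZMod 12 → E → G}

/-- the norms generate the fixed field -/
def NormGen (σ : E ≃+* E) : Prop := ∀ s, σ s = s → s ∈ Subring.closure {y | ∃ a, y = nrm σ a}

theorem NormGen.linear (hc : ∀ a, σ (σ (σ a)) = a) (hg : NormGen σ) {φ : E → E}
    (h1 : ∀ s t, σ s = s → σ t = t → φ (s + t) = φ s + φ t)
    (h2 : ∀ s a, σ s = s → φ (s * nrm σ a) = φ s * nrm σ a) {s : E} (hs : σ s = s) : φ s = φ 1 * s := by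
  have h0 : φ 0 = 0 := by
    have := h1 0 0 (map_zero σ) (map_zero σ)
    rw [add_zero] at this
    exact left_eq_add.1 this
  have hneg : ∀ s, σ s = s → φ (-s) = -φ s := by
    intro s hs
    have := h1 s (-s) hs (by rw [map_neg, hs])
    rw [add_neg_cancel, h0] at this
    exact (neg_eq_of_add_eq_zero_right this.symm).symm
  have key : σ s = s ∧ ∀ t, σ t = t → φ (t * s) = φ t * s := by
    refine Subring.closure_induction (p := fun s _ => σ s = s ∧ ∀ t, σ t = t → φ (t * s) = φ t * s)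
      ?_ ?_ ?_ ?_ ?_ ?_ (hg s hs)
    · rintro _ ⟨a, rfl⟩
      exact ⟨nrm_fix hc a, fun t ht => h2 t a ht⟩
    · exact ⟨map_zero σ, fun t _ => by rw [mul_zero, mul_zero, h0]⟩
    · exact ⟨map_one σ, fun t _ => by rw [mul_one, mul_one]⟩
    · rintro y z - - ⟨hy, hy'⟩ ⟨hz, hz'⟩
      refine ⟨by rw [map_add, hy, hz], fun t ht => ?_⟩
      rw [mul_add, h1 _ _ (by rw [map_mul, ht, hy]) (by rw [map_mul, ht, hz]), hy' t ht, hz' t ht, mul_add]
    · rintro y - ⟨hy, hy'⟩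
      refine ⟨by rw [map_neg, hy], fun t ht => ?_⟩
      rw [mul_neg, hneg _ (by rw [map_mul, ht, hy]), hy' t ht, mul_neg]
    · rintro y z - - ⟨hy, hy'⟩ ⟨hz, hz'⟩
      refine ⟨by rw [map_mul, hy, hz], fun t ht => ?_⟩
      rw [← mul_assoc, hz' _ (by rw [map_mul, ht, hy]), hy' t ht, mul_assoc]
  have := key.2 1 (map_one σ)
  rwa [one_mul] at this

variable (h : HexTwo σ x)
include h

theorem Co.of_x4 {v z : G} (hz : z ∈ gen σ x {4}) {b c e f : E} (h1 : Co σ x (z * v) b c e f) : Co σ x v b c e f := by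
  have := h1.x4 h (inv_mem hz)
  rwa [inv_mul_cancel_left] at this

theorem shp_fix_mul {s : E} (hs : σ s = s) (a : E) : shp σ (s * a) = s ^ 2 * shp σ a := by
  rw [shp_mul]
  congr 1
  unfold shp
  rw [hs, hs, pow_two]

theorem nrm_fix_mul {s : E} (hs : σ s = s) (a : E) : nrm σ (s * a) = s ^ 3 * nrm σ a := by
  rw [nrm_mul]
  congr 1
  unfold nrm
  rw [hs, hs]
  ring

omit h in
theorem nrm_eq (a : E) : nrm σ a = a * shp σ a := by
  unfold nrm shp
  rw [mul_assoc]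

theorem trc_shp_self (a : E) : trc σ (shp σ a) a = nrm σ a := by
  have e1 : shp σ a * a = nrm σ a := by rw [nrm_eq, mul_comm]
  unfold trc
  rw [e1, h.fix_nrm, h.fix_nrm]
  have := h.add_self (nrm σ a)
  linear_combination this

/-- fixed points of `X₁` on `Q / X₄` -/
theorem fixed_coord {ω : E} (hω : σ ω = ω) (hω0 : ω ≠ 0) (hω1 : ω ≠ 1) {c e : E}
    (hc : ∀ a, trc σ a c + trc σ (shp σ a) e = 0) : c = 0 ∧ e = 0 := by
  have key : ∀ a, trc σ a c = 0 := by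
    intro a
    have h1 := hc a
    have h2 := hc (ω * a)
    rw [shp_fix_mul h hω, trc_smul_left hω, trc_smul_left (by rw [map_pow, hω])] at h2
    have h3 : trc σ (shp σ a) e = trc σ a c := by
      have := h.add_self (trc σ (shp σ a) e)
      linear_combination h1 - this + h.add_self (trc σ (shp σ a) e) - h.add_self (trc σ a c)
    rw [h3] at h2
    have h4 : (ω * (1 + ω)) * trc σ a c = 0 := by linear_combination h2
    rcases mul_eq_zero.1 h4 with h5 | h5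
    · rcases mul_eq_zero.1 h5 with h6 | h6
      · exact absurd h6 hω0
      · exfalso
        apply hω1
        have := h.add_self (1 : E)
        linear_combination h6 - this
    · exact h5
  have hc0 : c = 0 := h.eq_zero_of_trc fun y => by rw [trc_comm]; exact key y
  refine ⟨hc0, ?_⟩
  by_contra he
  have h1 := hc e
  rw [hc0, trc_zero_right, zero_add, trc_shp_self h] at h1
  exact nrm_ne_zero he h1

section Act

variable {e : G} (hP : ∀ p ∈ gen σ x (arc 1 7), e * p * e⁻¹ * p⁻¹ ∈ gen σ x (arc 2 5))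
include hP

theorem conj_Q {v : G} (hv : v ∈ gen σ x (arc 2 5)) : e * v * e⁻¹ ∈ gen σ x (arc 2 5) := by
  have h1 := hP v (arc_sub (k := 2) (l := 1) (m := 5) (n := 7) (by decide) hv)
  have h2 := mul_mem h1 hv
  rwa [inv_mul_cancel_right] at h2

theorem act_iff {p v : G} (hp : p ∈ gen σ x (arc 1 7)) {b c e' f : E} :
    Co σ x (e * (p * v * p⁻¹) * e⁻¹) b c e' f ↔ Co σ x (p * (e * v * e⁻¹) * p⁻¹) b c e' f := by
  have e1 : e * (p * v * p⁻¹) * e⁻¹ =
      (e * p * e⁻¹ * p⁻¹) * (p * (e * v * e⁻¹) * p⁻¹) * (e * p * e⁻¹ * p⁻¹)⁻¹ := by group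
  rw [e1]
  exact ⟨fun h1 => h1.of_conjQ h (hP p hp), fun h1 => h1.conjQ h (hP p hp)⟩

omit h hP in
theorem nn1_P : nn x 1 ∈ gen σ x (arc 1 7) :=
  nn_mem_gen (show (1 - 1 : ZMod 12).val < 7 by decide) (show (1 + 6 - 1 : ZMod 12).val < 7 by decide)

omit h hP in
theorem x1_P (a : E) : x 1 a ∈ gen σ x (arc 1 7) :=
  x_mem_gen (show (1 - 1 : ZMod 12).val < 7 by decide) (ok_odd (by decide) a)

omit hP in
theorem nn1_x6 {t : E} (ht : σ t = t) : nn x 1 * x 6 t * (nn x 1)⁻¹ = x 2 t := by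
  have := h.refl1 6 t (ok_of_fix 6 ht)
  rwa [show (8 - 6 : ZMod 12) = 2 by decide] at this

/-- `e` acts on `X₂` and `X₆` modulo `X₄` by the same map -/
theorem exists_phi {ω : E} (hω : σ ω = ω) (hω0 : ω ≠ 0) (hω1 : ω ≠ 1) {t : E} (ht : σ t = t) :
    ∃ l, Co σ x (e * x 2 t * e⁻¹) l 0 0 0 ∧ Co σ x (e * x 6 t * e⁻¹) 0 0 0 l := by
  have hx6 : x 6 t ∈ gen σ x (arc 2 5) := (co_x6 h ht).mem
  obtain ⟨b, c, e', f, hv⟩ := exists_co h (conj_Q h hP hx6)
  have hu : Co σ x (e * x 2 t * e⁻¹) f e' c b := by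
    rw [← nn1_x6 h ht, act_iff h hP nn1_P]
    exact hv.conjn h
  have key : ∀ a, b * a = 0 ∧ trc σ a e' + trc σ (shp σ a) c = 0 := by
    intro a
    have h1 : Co σ x (e * (x 1 a * x 2 t * (x 1 a)⁻¹) * e⁻¹) f e' c b := by
      rw [h.s12 a ht, mul_inv_cancel_right]
      exact hu
    rw [act_iff h hP (x1_P a)] at h1
    obtain ⟨h2, -, h3, -⟩ := h1.unique h (hu.conj1 h a)
    have h3' : b * a = 0 := left_eq_add.1 h3
    refine ⟨h3', ?_⟩
    have hb0 : b * nrm σ a = 0 := by rw [nrm_eq, ← mul_assoc, h3', zero_mul]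
    rw [hb0, add_zero, add_assoc] at h2
    exact left_eq_add.1 h2
  have hb : b = 0 := by
    have := (key 1).1
    rwa [mul_one] at this
  obtain ⟨he', hc⟩ := fixed_coord h hω hω0 hω1 fun a => (key a).2
  subst hb he' hc
  exact ⟨f, hu, hv⟩

section

variable (hX : ∀ z ∈ gen σ x {4}, e * z * e⁻¹ ∈ gen σ x {4}) {φ : E → E}
  (hφ : ∀ t, σ t = t → Co σ x (e * x 2 t * e⁻¹) (φ t) 0 0 0 ∧ Co σ x (e * x 6 t * e⁻¹) 0 0 0 (φ t))
include hX hφ

/-- (A) -/
theorem formA (a : E) {t : E} (ht : σ t = t) :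
    Co σ x (e * (x 3 (t * shp σ a) * x 5 (t * a)) * e⁻¹) (φ t * nrm σ a + φ (t * nrm σ a)) (φ t * shp σ a)
      (φ t * a) 0 := by
  have h35 : x 3 (t * shp σ a) * x 5 (t * a) ∈ gen σ x (arc 2 5) := mul_mem (co_x3 h _).mem (co_x5 h _).mem
  obtain ⟨b, c, e', f, hv⟩ := exists_co h (conj_Q h hP h35)
  have htn : σ (t * nrm σ a) = t * nrm σ a := by rw [map_mul, ht, h.fix_nrm]
  -- the image of `x₁(a) x₆(t) x₁(a)⁻¹`
  have h1 : Co σ x (e * (x 1 a * x 6 t * (x 1 a)⁻¹) * e⁻¹) (φ t * nrm σ a) (φ t * shp σ a) (φ t * a) (φ t) := by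
    rw [act_iff h hP (x1_P a)]
    have := (hφ t ht).2.conj1 h a
    simpa [trc_zero_right, crs_zero_right] using this
  -- the element itself
  have h2 : Co σ x (x 1 a * x 6 t * (x 1 a)⁻¹) (t * nrm σ a) (t * shp σ a) (t * a) t := by
    have := (co_x6 h ht).conj1 h a
    simpa [trc_zero_right, crs_zero_right] using this
  obtain ⟨-, -, d, hd, e2⟩ := h2
  have e3 : x 1 a * x 6 t * (x 1 a)⁻¹ = x 2 (t * nrm σ a) * (x 4 d * (x 3 (t * shp σ a) * x 5 (t * a))) * x 6 t := by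
    rw [e2]
    unfold q
    have := h.s34 (t * shp σ a) hd
    calc x 2 (t * nrm σ a) * x 3 (t * shp σ a) * x 4 d * x 5 (t * a) * x 6 t
        = x 2 (t * nrm σ a) * (x 3 (t * shp σ a) * x 4 d) * x 5 (t * a) * x 6 t := by group
      _ = _ := by rw [this]; group
  have e4 : e * (x 1 a * x 6 t * (x 1 a)⁻¹) * e⁻¹ =
      (e * x 2 (t * nrm σ a) * e⁻¹) * ((e * x 4 d * e⁻¹) * (e * (x 3 (t * shp σ a) * x 5 (t * a)) * e⁻¹)) *
        (e * x 6 t * e⁻¹) := by
    rw [e3]; group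
  have h3 := (((hφ _ htn).1.mul h (hv.x4 h (hX _ (x_mem_gen (Set.mem_singleton _) (ok_of_fix 4 hd))))).mul h (hφ t ht).2)
  rw [← e4] at h3
  obtain ⟨a1, a2, a3, a4⟩ := h3.unique h h1
  rw [add_zero] at a1
  rw [zero_add, add_zero] at a2 a3
  rw [zero_add] at a4
  have b1 : b = φ t * nrm σ a + φ (t * nrm σ a) := by
    have := h.add_self (φ (t * nrm σ a))
    linear_combination a1 - this
  have b4 : f = 0 := by
    exact add_eq_right.1 a4
  rw [← b1, ← a2, ← a3, ← b4]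
  exact hv

theorem formB (a : E) {t : E} (ht : σ t = t) :
    Co σ x (e * (x 3 (t * a) * x 5 (t * shp σ a)) * e⁻¹) 0 (φ t * a) (φ t * shp σ a)
      (φ t * nrm σ a + φ (t * nrm σ a)) := by
  have h1 := (formA h hP hX hφ a ht).conjn h
  rw [← act_iff h hP nn1_P] at h1
  have r3 := h.refl1 3 (t * shp σ a) (ok_odd (by decide) _)
  have r5 := h.refl1 5 (t * a) (ok_odd (by decide) _)
  rw [show (8 - 3 : ZMod 12) = 5 by decide] at r3
  rw [show (8 - 5 : ZMod 12) = 3 by decide] at r5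
  have e1 : nn x 1 * (x 3 (t * shp σ a) * x 5 (t * a)) * (nn x 1)⁻¹ = x 5 (t * shp σ a) * x 3 (t * a) := by
    rw [← r3, ← r5]; group
  have hT : σ (trc σ (t * a) (t * shp σ a)) = trc σ (t * a) (t * shp σ a) := h.fix_trc _ _
  have e2 : x 5 (t * shp σ a) * x 3 (t * a) =
      x 4 (trc σ (t * a) (t * shp σ a)) * (x 3 (t * a) * x 5 (t * shp σ a)) := by
    rw [h.c35, mul_assoc (x 4 _), ← mul_assoc (x 4 _) (x 4 _), h.x_sq (ok_of_fix 4 hT), one_mul]
  rw [e1, e2] at h1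
  have e3 : e * (x 4 (trc σ (t * a) (t * shp σ a)) * (x 3 (t * a) * x 5 (t * shp σ a))) * e⁻¹ =
      (e * x 4 (trc σ (t * a) (t * shp σ a)) * e⁻¹) * (e * (x 3 (t * a) * x 5 (t * shp σ a)) * e⁻¹) := by group
  rw [e3] at h1
  exact Co.of_x4 h (hX _ (x_mem_gen (Set.mem_singleton _) (ok_of_fix 4 hT))) h1

theorem phi_nrm {a : E} (ha : a ≠ 0) {t : E} (ht : σ t = t) : φ (t * nrm σ a) = φ t * nrm σ a := by
  have hA := formA h hP hX hφ a ht
  have htn : σ (t * nrm σ a) = t * nrm σ a := by rw [map_mul, ht, h.fix_nrm]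
  have hB := formB h hP hX hφ a⁻¹ htn
  have hs : shp σ a ≠ 0 := shp_ne_zero ha
  have e1 : t * nrm σ a * a⁻¹ = t * shp σ a := by
    rw [nrm_eq]; field_simp
  have e2 : t * nrm σ a * shp σ a⁻¹ = t * a := by
    have : shp σ a⁻¹ = (shp σ a)⁻¹ := by
      unfold shp; rw [map_inv₀, map_inv₀, mul_inv]
    rw [nrm_eq, this]; field_simp
  rw [e1, e2] at hB
  obtain ⟨h1, -, -, -⟩ := hA.unique h hB
  have := h.add_self (φ t * nrm σ a)
  linear_combination h1 - this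

theorem phi_add {s t : E} (hs : σ s = s) (ht : σ t = t) : φ (s + t) = φ s + φ t := by
  have h1 := (hφ s hs).1.mul h (hφ t ht).1
  have e1 : e * x 2 s * e⁻¹ * (e * x 2 t * e⁻¹) = e * x 2 (s + t) * e⁻¹ := by
    rw [h.add 2 s t (ok_of_fix 2 hs) (ok_of_fix 2 ht)]; group
  rw [e1] at h1
  exact ((hφ (s + t) (by rw [map_add, hs, ht])).1.unique h h1).1

end

/-- **`e` acts on `Q / X₄` as a scalar.** -/
theorem exists_lam (hg : NormGen σ) {ω : E} (hω : σ ω = ω) (hω0 : ω ≠ 0) (hω1 : ω ≠ 1)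
    (hX : ∀ z ∈ gen σ x {4}, e * z * e⁻¹ ∈ gen σ x {4}) :
    ∃ l, σ l = l ∧ l ≠ 0 ∧ (∀ t, σ t = t → Co σ x (e * x 2 t * e⁻¹) (l * t) 0 0 0) ∧
      (∀ t, σ t = t → Co σ x (e * x 6 t * e⁻¹) 0 0 0 (l * t)) ∧
      (∀ t a, σ t = t → Co σ x (e * (x 3 (t * shp σ a) * x 5 (t * a)) * e⁻¹) 0 (l * t * shp σ a) (l * t * a) 0) ∧
      ∀ t, σ t = t → e * x 4 t * e⁻¹ = x 4 (l * l * t) := by
  have hex : ∀ t : E, ∃ l, σ t = t → Co σ x (e * x 2 t * e⁻¹) l 0 0 0 ∧ Co σ x (e * x 6 t * e⁻¹) 0 0 0 l := by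
    intro t
    by_cases ht : σ t = t
    · obtain ⟨l, hl⟩ := exists_phi h hP hω hω0 hω1 ht
      exact ⟨l, fun _ => hl⟩
    · exact ⟨0, fun h0 => absurd h0 ht⟩
  choose φ hφ using hex
  have hlin : ∀ s, σ s = s → φ s = φ 1 * s := fun s hs => hg.linear h.cube (fun s t hs ht => phi_add h hP hX hφ hs ht)
    (fun s a hs => by
      by_cases ha : a = 0
      · subst ha
        rw [nrm_zero, mul_zero, mul_zero]
        have h0 := phi_add h hP hX hφ (map_zero σ) (map_zero σ)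
        rw [add_zero] at h0
        exact left_eq_add.1 h0
      · exact phi_nrm h hP hX hφ ha hs) hs
  have h1f : σ (φ 1) = φ 1 := (hφ 1 (map_one σ)).1.1
  have h4 : ∀ t, σ t = t → e * x 4 t * e⁻¹ = x 4 (φ 1 * φ 1 * t) := by
    intro t ht
    have h2 := (hφ t ht).1
    have h6 := (hφ 1 (map_one σ)).2
    have e1 := conj_Co h h2 h6
    have e2 := h.c26 ht (map_one σ)
    rw [mul_one] at e2
    have e3 : x 4 t = x 2 t * x 6 1 * (x 2 t)⁻¹ * (x 6 1)⁻¹ := by rw [e2]; group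
    have e4 : BB σ (φ t) 0 0 0 0 0 0 (φ 1) = φ 1 * φ 1 * t := by
      unfold BB
      rw [trc_zero_left, hlin t ht]; ring
    rw [e4] at e1
    calc e * x 4 t * e⁻¹ = (e * x 2 t * e⁻¹) * (e * x 6 1 * e⁻¹) * (e * x 2 t * e⁻¹)⁻¹ * (e * x 6 1 * e⁻¹)⁻¹ := by
          rw [e3]; group
      _ = x 4 (φ 1 * φ 1 * t) := by rw [e1]; group
  refine ⟨φ 1, h1f, ?_, fun t ht => ?_, fun t ht => ?_, fun t a ht => ?_, h4⟩
  · intro h0
    have := h4 1 (map_one σ)
    rw [h0, zero_mul, zero_mul, h.x_zero] at this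
    have h1 : x 4 1 = 1 := by
      calc x 4 1 = e⁻¹ * (e * x 4 1 * e⁻¹) * e := by group
        _ = 1 := by rw [this]; group
    exact one_ne_zero ((h.x_eq_one (ok_one σ 4)).1 h1)
  · rw [← hlin t ht]; exact (hφ t ht).1
  · rw [← hlin t ht]; exact (hφ t ht).2
  · have h1 := formA h hP hX hφ a ht
    have h2 : φ t * nrm σ a + φ (t * nrm σ a) = 0 := by
      rw [hlin t ht, hlin (t * nrm σ a) (by rw [map_mul, ht, h.fix_nrm])]
      have := h.add_self (φ 1 * t * nrm σ a)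
      linear_combination this
    rw [h2] at h1
    rw [← hlin t ht]
    exact h1

end Act

end Cfsg.Agent.OddHalf.DblR.HexK
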