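import Cfsg.Agent.OddHalf.DblR.HexK.KB
import Cfsg.Agent.OddHalf.DblR.HexK.Tri
import Cfsg.Agent.OddHalf.DblR.Exist

/-!
# `G₂(q)`, `³D₄(q)`: the local situation at a long root group

`T0` : the torus elements `h₄(s)`; `loc` : `Loc (AA σ x) R P Q X₄ T0`; `norX` : `NorX`; `core_le` : `Q = O₂(P)`;
`cj_of_cj_P` : `P` determines `Q` and `X₄`.
-/

set_option autoImplicit false
set_option maxHeartbeats 400000

namespace Cfsg.Agent.OddHalf.DblR.HexK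

open Subgroup Cfsg.Agent.StdRank2.Hex Cfsg.Agent.StdRank2.Hex.HexTwo Cfsg.Agent.SplitTwo
open scoped commutatorElement

local notation "cJ" => Cfsg.Agent.Nodes.Reps.cj

variable {E : Type*} [Field E] {σ : E ≃+* E} {G : Type*} [Group G] {x : ZMod 12 → E → G} (h : HexTwo σ x)
include h

/-- the torus elements `h₄(s)` -/
def T0 [Finite E] : Subgroup G where
  carrier := {g | ∃ s, σ s = s ∧ s ≠ 0 ∧ g = hh x 4 s}
  one_mem' := ⟨1, map_one σ, one_ne_zero, (h.hh_one 4).symm⟩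
  mul_mem' := by
    rintro _ _ ⟨s, hs, hs0, rfl⟩ ⟨t, ht, ht0, rfl⟩
    exact ⟨s * t, by rw [map_mul, hs, ht], mul_ne_zero hs0 ht0,
      (h.hh_mul 4 hs0 ht0 (ok_of_fix 4 hs) (ok_of_fix 4 ht)).symm⟩
  inv_mem' := by
    rintro _ ⟨s, hs, hs0, rfl⟩
    exact ⟨s⁻¹, by rw [map_inv₀, hs], inv_ne_zero hs0, h.hh_inv 4 hs0 (ok_of_fix 4 hs)⟩

theorem mem_T0 [Finite E] {g : G} : g ∈ T0 h ↔ ∃ s, σ s = s ∧ s ≠ 0 ∧ g = hh x 4 s := Iff.rfl

theorem T0_le_H [Finite E] : T0 h ≤ h.H := by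
  rintro _ ⟨s, hs, hs0, rfl⟩
  exact h.hh_mem_H 4 hs0 (ok_of_fix 4 hs)

theorem hh4_x4 {s t : E} (hs : σ s = s) (hs0 : s ≠ 0) (ht : σ t = t) :
    hh x 4 s * x 4 t * (hh x 4 s)⁻¹ = x 4 (s * s * t) := by
  rw [h.tor 4 4 hs0 (ok_of_fix 4 hs) (ok_of_fix 4 ht), sub_self, ch_zero_right, pow_two]

/-- `[h₄(s), P] ≤ Q` -/
theorem T0_P [Finite E] {g p : G} (hg : g ∈ T0 h) (hp : p ∈ gen σ x (arc 1 7)) :
    g * p * g⁻¹ * p⁻¹ ∈ gen σ x (arc 2 5) := by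
  obtain ⟨s, hs, hs0, rfl⟩ := hg
  set g := hh x 4 s with hgd
  have hgH : g ∈ h.H := h.hh_mem_H 4 hs0 (ok_of_fix 4 hs)
  let S : Subgroup G :=
    { carrier := {p | p ∈ gen σ x (arc 1 7) ∧ g * p * g⁻¹ * p⁻¹ ∈ gen σ x (arc 2 5)}
      one_mem' := ⟨one_mem _, by simp⟩
      mul_mem' := by
        rintro p r ⟨hp, hp'⟩ ⟨hr, hr'⟩
        refine ⟨mul_mem hp hr, ?_⟩
        have e : g * (p * r) * g⁻¹ * (p * r)⁻¹ = (g * p * g⁻¹ * p⁻¹) * (p * (g * r * g⁻¹ * r⁻¹) * p⁻¹) := by group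
        rw [e]
        exact mul_mem hp' (Cfsg.Agent.HexStart.P1_Q1 h hp hr')
      inv_mem' := by
        rintro p ⟨hp, hp'⟩
        refine ⟨inv_mem hp, ?_⟩
        have e : g * p⁻¹ * g⁻¹ * p⁻¹⁻¹ = p⁻¹ * (g * p * g⁻¹ * p⁻¹)⁻¹ * p⁻¹⁻¹ := by group
        rw [e]
        exact Cfsg.Agent.HexStart.P1_Q1 h (inv_mem hp) (inv_mem hp') }
  have hle : gen σ x (arc 1 7) ≤ S := by
    refine gen_le fun k hk a ha => ?_
    refine ⟨x_mem_gen hk ha, ?_⟩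
    have hc : ∀ k : ZMod 12, (k - 1).val < 7 → (k - 4 = 9 ∨ k - 4 = 3) ∨ (k - 2).val < 5 := by decide
    rcases hc k hk with h1 | h1
    · rw [act_perp h (k := 4) (j := k) (by rcases h1 with h1 | h1; exact Or.inr h1; exact Or.inl h1) hs0
        (ok_of_fix 4 hs) ha, mul_inv_cancel]
      exact one_mem _
    · have h2 : x k a ∈ gen σ x (arc 2 5) := x_mem_gen h1 ha
      exact mul_mem (h.H_conj_gen hgH _ h2) (inv_mem h2)
  exact (hle hp).2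

theorem X4_P {z p : G} (hz : z ∈ gen σ x {4}) (hp : p ∈ gen σ x (arc 1 7)) : z * p = p * z :=
  (Cfsg.Agent.HexStart.X4_comm h hz hp).symm

/-- **`Loc` for `G₂(q)` and `³D₄(q)`.** -/
theorem loc [Finite E] [Finite G] (hg : NormGen σ) {ω : E} (hω : σ ω = ω) (hω0 : ω ≠ 0) (hω1 : ω ≠ 1)
    {R : Subgroup G} (A : Amb (AA σ x) R) (hR : ∃ t ∈ R, t ≠ 1)
    (two : ∀ c ∈ C1 (AA σ x) R, IsPGroup 2 (Subgroup.zpowers c) → c ∈ R) :
    Loc (AA σ x) R (gen σ x (arc 1 7)) (gen σ x (arc 2 5)) (gen σ x {4}) (T0 h) where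
  amb := A
  PK := gen_mono (Set.subset_univ _)
  QP := arc_sub (by decide)
  XQ := sing_le h (by decide)
  XX := by
    intro z hz
    obtain ⟨t, ht, rfl⟩ := h.mem_gen_singleton.1 hz
    exact h.x_sq ht
  XZ := fun z hz p hp => X4_P h hz hp
  QN := fun p hp q hq => Cfsg.Agent.HexStart.P1_Q1 h hp hq
  TK := (T0_le_H h).trans (H_le h)
  TX := fun g hg z hz => h.H_conj_gen (T0_le_H h hg) _ hz
  TQ := fun g hg p hp => T0_P h hg hp
  Tab := by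
    rintro _ ⟨s, hs, hs0, rfl⟩ _ ⟨t, ht, ht0, rfl⟩
    exact (h.hh_commute 4 4 hs0 ht0 (ok_of_fix 4 hs) (ok_of_fix 4 ht)).eq
  Ttr := by
    intro y hy hy1 z hz hz1
    obtain ⟨a, ha, rfl⟩ := h.mem_gen_singleton.1 hy
    obtain ⟨b, hb, rfl⟩ := h.mem_gen_singleton.1 hz
    have ha' : σ a = a := ha (by decide)
    have hb' : σ b = b := hb (by decide)
    have ha0 : a ≠ 0 := fun e => hy1 (by rw [e, h.x_zero])
    have hb0 : b ≠ 0 := fun e => hz1 (by rw [e, h.x_zero])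
    obtain ⟨s, hs⟩ := h.exists_sqrt (b * a⁻¹)
    have hs0 : s ≠ 0 := by
      rintro rfl
      rw [zero_mul] at hs
      exact mul_ne_zero hb0 (inv_ne_zero ha0) hs.symm
    have hsf : σ s = s := h.sqrt_fix hs (by rw [map_mul, map_inv₀, ha', hb'])
    refine ⟨hh x 4 s, ⟨s, hsf, hs0, rfl⟩, ?_⟩
    rw [hh4_x4 h hsf hs0 ha', hs, mul_assoc, inv_mul_cancel₀ ha0, mul_one]
  big := by
    refine ⟨x 4 1, x_mem_gen (Set.mem_singleton _) (ok_one σ 4), x 4 ω,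
      x_mem_gen (Set.mem_singleton _) (ok_of_fix 4 hω), ?_, ?_, ?_⟩
    · intro e
      rw [← h.x_zero 4] at e
      exact one_ne_zero ((h.x_inj (ok_one σ 4) (ok_of_fix 4 (map_zero σ))).1 e)
    · intro e
      rw [← h.x_zero 4] at e
      exact hω0 ((h.x_inj (ok_of_fix 4 hω) (ok_of_fix 4 (map_zero σ))).1 e)
    · intro e
      exact hω1 ((h.x_inj (ok_one σ 4) (ok_of_fix 4 hω)).1 e).symm
  two := two
  k3 := by
    intro c hc hcP
    have hN : NotTwo σ := Or.inl ⟨ω, hω, fun e => by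
      have e1 : ω * (ω - 1) = 0 := by linear_combination e
      rcases mul_eq_zero.1 e1 with h1 | h1
      · exact hω0 h1
      · exact hω1 (sub_eq_zero.1 h1)⟩
    obtain ⟨z, hz, hz'⟩ := aut_U h hN (normalises A hR hc) fun v hv => hcP v (arc_sub (by decide) hv)
    exact ⟨z, hz, C1_of_cent (gen_mono (Set.subset_univ _) hz) A.comm hc hz'⟩
  k4 := by
    intro e _ _ hX hP
    obtain ⟨l, hlf, hl0, -, -, -, h4⟩ := exists_lam h hP hg hω hω0 hω1 hX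
    refine ⟨hh x 4 l, ⟨l, hlf, hl0, rfl⟩, ?_⟩
    intro z hz
    obtain ⟨t, ht, rfl⟩ := h.mem_gen_singleton.1 hz
    rw [h4 t (ht (by decide)), hh4_x4 h hlf hl0 (ht (by decide))]
  B := fun y _ hP hX => exists_q h hP hX hg hω hω0 hω1

/-! ### `NorX` -/

theorem P_nor [Finite E] {k : G} (hk : k ∈ AA σ x) (hkX : cJ k (gen σ x {4}) = gen σ x {4}) :
    ∃ p ∈ gen σ x (arc 1 7), ∃ t ∈ h.H, k = p * t := by
  have h1 : k * x 4 1 * k⁻¹ ∈ gen σ x {4} := by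
    rw [← hkX]
    exact Cfsg.Agent.Nodes.Reps.conj_mem_cj.2 (x_mem_gen (Set.mem_singleton _) (ok_one σ 4))
  obtain ⟨t, ht, e⟩ := h.mem_gen_singleton.1 h1
  obtain ⟨p, hp, b, hb0, hb, -, e2⟩ := h.long_transport hk (map_one σ) (ht (by decide)) one_ne_zero e
  exact ⟨p, hp, _, h.hh6_mem_H hb0 hb, e2⟩

theorem norX [Finite E] : NorX (AA σ x) (gen σ x (arc 1 7)) (gen σ x {4}) (T0 h) where
  nP := by
    intro k hk hkX
    obtain ⟨p, hp, t, ht, rfl⟩ := P_nor h hk hkX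
    rw [Cfsg.Agent.Nodes.Reps.cj_mul, cJ_H h ht, Cfsg.Agent.Nodes.Reps.cj_eq_of_mem hp]
  nh := by
    intro k hk hkX g hg
    obtain ⟨p, hp, t, ht, rfl⟩ := P_nor h hk hkX
    have htg : t * g = g * t := (h.H_comm ht (T0_le_H h hg))
    have h1 := T0_P h (inv_mem hg) hp
    refine ⟨g⁻¹ * p * g⁻¹⁻¹ * p⁻¹, arc_sub (by decide) h1, ?_⟩
    calc p * t * g * (p * t)⁻¹ = p * (t * g) * t⁻¹ * p⁻¹ := by group
      _ = p * g * p⁻¹ := by rw [htg]; group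
      _ = g * (g⁻¹ * p * g⁻¹⁻¹ * p⁻¹) := by group

/-! ### `Q = O₂(P)`, `X₄ = Z(P)` -/

theorem core_le [Finite E] [Finite G] {D : Subgroup G} (hD : D ≤ gen σ x (arc 1 7)) (hD2 : IsPGroup 2 D)
    (hn : ∀ p ∈ gen σ x (arc 1 7), ∀ y ∈ D, p * y * p⁻¹ ∈ D) : D ≤ gen σ x (arc 2 5) := by
  obtain ⟨p, hp, hpD⟩ := h.sylow_conj (S := gen σ x (arc 1 7)) (arc_sub (by decide)) (gen_mono (Set.subset_univ _)) hD2 hD
  have hU : D ≤ UU σ x := by
    intro y hy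
    have h1 := hpD _ (hn p⁻¹ (inv_mem hp) y hy)
    have e : p * (p⁻¹ * y * p⁻¹⁻¹) * p⁻¹ = y := by group
    rwa [e] at h1
  intro y hy
  have hw : ∀ j a, Ok σ j a → nn x 1 * x j a * (nn x 1)⁻¹ = x (-1 * j + 8) a := by
    intro j a ha
    rw [h.refl1 j a ha]
    congr 1
    ring
  have h1 := h.mem_of_conj (w := nn x 1) (e := -1) (c := 8) (by decide) (Or.inr rfl) hw (hU hy)
    (hU (hn _ nn1_P y hy))
  refine gen_mono ?_ h1
  rintro k ⟨hk1, hk2⟩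
  have : ∀ k : ZMod 12, (k - 1).val < 6 → (-1 * k + 8 - 1).val < 6 → (k - 2).val < 5 := by decide
  exact this k hk1 hk2

theorem cj_of_cj_P [Finite E] [Finite G] {g : G} (hg : cJ g (gen σ x (arc 1 7)) = gen σ x (arc 1 7)) :
    cJ g (gen σ x (arc 2 5)) = gen σ x (arc 2 5) ∧ cJ g (gen σ x {4}) = gen σ x {4} := by
  have hQP : gen σ x (arc 2 5) ≤ gen σ x (arc 1 7) := arc_sub (by decide)
  have hXP : gen σ x {4} ≤ gen σ x (arc 1 7) := sing_le h (by decide)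
  have inv_of : ∀ g : G, cJ g (gen σ x (arc 1 7)) = gen σ x (arc 1 7) →
      cJ g⁻¹ (gen σ x (arc 1 7)) = gen σ x (arc 1 7) := by
    intro g hg
    conv_lhs => rw [← hg]
    exact Cfsg.Agent.Nodes.Reps.cj_inv_cj g _
  have key1 : ∀ g : G, cJ g (gen σ x (arc 1 7)) = gen σ x (arc 1 7) → cJ g (gen σ x {4}) ≤ gen σ x {4} := by
    intro g hg z hz
    rw [Cfsg.Agent.Nodes.Reps.mem_cj] at hz
    have hzP : z ∈ gen σ x (arc 1 7) := by
      rw [← hg, Cfsg.Agent.Nodes.Reps.mem_cj]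
      exact hXP hz
    refine h.mem_X4_of (gen_mono (Set.subset_univ _) hzP) fun v hv => ?_
    have h1 : g⁻¹ * v * g ∈ gen σ x (arc 1 7) := by
      rw [← Cfsg.Agent.Nodes.Reps.mem_cj, hg]; exact hQP hv
    have h2 := X4_P h hz h1
    change z * v = v * z
    calc z * v = g * ((g⁻¹ * z * g) * (g⁻¹ * v * g)) * g⁻¹ := by group
      _ = g * ((g⁻¹ * v * g) * (g⁻¹ * z * g)) * g⁻¹ := by rw [h2]
      _ = v * z := by group
  have key2 : ∀ g : G, cJ g (gen σ x (arc 1 7)) = gen σ x (arc 1 7) → cJ g (gen σ x (arc 2 5)) ≤ gen σ x (arc 2 5) := by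
    intro g hg
    refine core_le h ?_ ?_ ?_
    · rw [← hg]
      exact Cfsg.Agent.Nodes.Reps.cj_mono g hQP
    · have h1 : IsPGroup 2 (gen σ x (arc 2 5)) := h.isPGroup_U.to_le (arc_sub (by decide))
      exact h1.map _
    · intro p hp y hy
      rw [Cfsg.Agent.Nodes.Reps.mem_cj] at hy ⊢
      have h1 : g⁻¹ * p * g ∈ gen σ x (arc 1 7) := by
        rw [← Cfsg.Agent.Nodes.Reps.mem_cj, hg]; exact hp
      have e : g⁻¹ * (p * y * p⁻¹) * g = (g⁻¹ * p * g) * (g⁻¹ * y * g) * (g⁻¹ * p * g)⁻¹ := by group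
      rw [e]
      exact Cfsg.Agent.HexStart.P1_Q1 h h1 hy
  have eq_of : ∀ {S : Subgroup G}, cJ g S ≤ S → cJ g⁻¹ S ≤ S → cJ g S = S := by
    intro S h1 h2
    apply le_antisymm h1
    have := Cfsg.Agent.Nodes.Reps.cj_mono g h2
    rwa [Cfsg.Agent.Nodes.Reps.cj_cj_inv] at this
  exact ⟨eq_of (key2 g hg) (key2 _ (inv_of g hg)), eq_of (key1 g hg) (key1 _ (inv_of g hg))⟩

end Cfsg.Agent.OddHalf.DblR.HexK
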