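import Cfsg.Agent.OddHalf.DblR.HexK.Loc
import Cfsg.Agent.OddHalf.DblR.FamP

/-!
# `G₂(q)`, `³D₄(q)`: `KTriP`

* `ktriP` : `KTriP` when the norms generate the fixed field as a ring.
-/

set_option autoImplicit false
set_option maxHeartbeats 400000

namespace Cfsg.Agent.OddHalf.DblR.HexK

open Subgroup Cfsg.Agent.StdRank2.Hex Cfsg.Agent.StdRank2.Hex.HexTwo Cfsg.Agent.SplitTwo
open scoped commutatorElement

local notation "cJ" => Cfsg.Agent.Nodes.Reps.cj

variable {E : Type*} [Field E] {σ : E ≃+* E} {G : Type*} [Group G] {x : ZMod 12 → E → G}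

/-- sums of norms -/
theorem mul_sum_nrm (s' : E) (l' : List E) (hl' : ∀ a ∈ l', a ≠ 0) (e' : s' = (l'.map (nrm σ)).sum) :
    ∀ l : List E, (∀ a ∈ l, a ≠ 0) → ∃ l₂ : List E, (∀ a ∈ l₂, a ≠ 0) ∧
      (l.map (nrm σ)).sum * s' = (l₂.map (nrm σ)).sum := by
  intro l
  induction l with
  | nil => exact fun _ => ⟨[], by simp, by simp⟩
  | cons a l ih =>
    intro hl
    obtain ⟨l₂, h1, h2⟩ := ih fun b hb => hl b (List.mem_cons_of_mem _ hb)
    have ha : a ≠ 0 := hl a List.mem_cons_self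
    refine ⟨l'.map (a * ·) ++ l₂, ?_, ?_⟩
    · intro b hb
      rcases List.mem_append.1 hb with hb | hb
      · obtain ⟨c, hc, rfl⟩ := List.mem_map.1 hb
        exact mul_ne_zero ha (hl' c hc)
      · exact h1 b hb
    · rw [List.map_cons, List.sum_cons, add_mul, List.map_append, List.sum_append, h2, List.map_map]
      congr 1
      have : (nrm σ ∘ fun x => a * x) = fun b => nrm σ a * nrm σ b := by
        funext b
        exact nrm_mul a b
      rw [this, List.sum_map_mul_left, e']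

theorem exists_list (two : (2 : E) = 0) {s : E} (hs : s ∈ Subring.closure {y | ∃ a, y = nrm σ a}) :
    ∃ l : List E, (∀ a ∈ l, a ≠ 0) ∧ s = (l.map (nrm σ)).sum := by
  induction hs using Subring.closure_induction with
  | mem y hy =>
    obtain ⟨a, rfl⟩ := hy
    by_cases ha : a = 0
    · subst ha
      exact ⟨[], by simp, by unfold nrm; simp⟩
    · exact ⟨[a], by simpa using ha, by simp⟩
  | zero => exact ⟨[], by simp, by simp⟩
  | one => exact ⟨[1], by simp, by simp [nrm_one]⟩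
  | add y z _ _ ihy ihz =>
    obtain ⟨l, h1, rfl⟩ := ihy
    obtain ⟨l', h1', rfl⟩ := ihz
    refine ⟨l ++ l', ?_, by rw [List.map_append, List.sum_append]⟩
    intro b hb
    rcases List.mem_append.1 hb with hb | hb
    · exact h1 b hb
    · exact h1' b hb
  | neg y _ ih =>
    obtain ⟨l, h1, h2⟩ := ih
    exact ⟨l, h1, by rw [← h2]; linear_combination -y * two⟩
  | mul y z _ _ ihy ihz =>
    obtain ⟨l, h1, rfl⟩ := ihy
    obtain ⟨l', h1', e'⟩ := ihz
    exact mul_sum_nrm z l' h1' e' l h1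

theorem NormGen.exists_ne (two : (2 : E) = 0) (hg : NormGen σ) {ω : E} (hω : σ ω = ω) (hω0 : ω ≠ 0) (hω1 : ω ≠ 1) :
    ∃ a, a ≠ 0 ∧ nrm σ a ≠ 1 := by
  by_contra hcon
  push Not at hcon
  obtain ⟨l, h1, h2⟩ := exists_list two (hg ω hω)
  have key : ∀ l : List E, (∀ a ∈ l, a ≠ 0) → (l.map (nrm σ)).sum = 0 ∨ (l.map (nrm σ)).sum = 1 := by
    intro l
    induction l with
    | nil => intro _; left; simp
    | cons a l ih =>
      intro hl
      rw [List.map_cons, List.sum_cons, hcon a (hl a List.mem_cons_self)]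
      rcases ih fun b hb => hl b (List.mem_cons_of_mem _ hb) with e | e
      · right; rw [e, add_zero]
      · left; rw [e]; linear_combination two
  rcases key l h1 with e | e
  · exact hω0 (h2.trans e)
  · exact hω1 (h2.trans e)

variable (h : HexTwo σ x)
include h

theorem exists_list_div (hg : NormGen σ) {b b' : E} (hb : σ b = b) (hb0 : b ≠ 0) (hb' : σ b' = b') :
    ∃ l : List E, (∀ a ∈ l, a ≠ 0) ∧ (l.map (nrm σ)).sum * b = b' := by
  obtain ⟨l, h1, h2⟩ := exists_list h.two (hg (b' * b⁻¹) (by rw [map_mul, map_inv₀, hb, hb']))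
  exact ⟨l, h1, by rw [← h2, mul_assoc, inv_mul_cancel₀ hb0, mul_one]⟩

theorem sum_nrm_fix (l : List E) : σ (l.map (nrm σ)).sum = (l.map (nrm σ)).sum := by
  induction l with
  | nil => simp
  | cons a l ih => rw [List.map_cons, List.sum_cons, map_add, ih, h.fix_nrm]

theorem lact_long [Finite E] {k j : ZMod 12} (hk : k.val % 2 = 1) (hj : j.val % 2 = 0) (hd : j - k = 1 ∨ j - k = 11)
    {b : E} (hb : σ b = b) : ∀ l : List E, (∀ a ∈ l, a ≠ 0) →
      lact (l.map (hh x k)) (x j b) = x j ((l.map (nrm σ)).sum * b) := by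
  intro l
  induction l with
  | nil => intro _; simp [lact_nil, h.x_zero]
  | cons a l ih =>
    intro hl
    rw [List.map_cons, lact_cons, ih fun c hc => hl c (List.mem_cons_of_mem _ hc),
      act_long h hk hj hd (hl a List.mem_cons_self) hb, List.map_cons, List.sum_cons, add_mul,
      h.add j _ _ (ok_of_fix j (by rw [map_mul, h.fix_nrm, hb])) (ok_of_fix j (by rw [map_mul, sum_nrm_fix h, hb]))]

theorem fpf_long [Finite E] {k j : ZMod 12} (hk : k.val % 2 = 1) (hj : j.val % 2 = 0) (hd : j - k = 1 ∨ j - k = 11)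
    {a : E} (ha : a ≠ 0) (ha1 : nrm σ a ≠ 1) : ∀ u ∈ gen σ x {j}, hh x k a * u = u * hh x k a → u = 1 := by
  intro u hu e
  obtain ⟨b, hb, rfl⟩ := h.mem_gen_singleton.1 hu
  have hb' : σ b = b := hb hj
  have h1 := act_long h hk hj hd ha hb'
  rw [e, mul_inv_cancel_right] at h1
  have h2 := (h.x_inj (ok_of_fix j hb') (ok_of_fix j (by rw [map_mul, h.fix_nrm, hb']))).1 h1
  have h3 : b = 0 := by
    by_contra hb0
    apply ha1
    have : (1 : E) * b = nrm σ a * b := by rw [one_mul]; exact h2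
    exact (mul_right_cancel₀ hb0 this).symm
  rw [h3, h.x_zero]

theorem cen_perp [Finite E] {k j : ZMod 12} (hd : j - k = 3 ∨ j - k = 9) {a : E} (ha : a ≠ 0) (hok : Ok σ k a) :
    ∀ u ∈ gen σ x {j}, hh x k a * u = u * hh x k a := by
  intro u hu
  obtain ⟨b, hb, rfl⟩ := h.mem_gen_singleton.1 hu
  exact mul_inv_eq_iff_eq_mul.1 (act_perp h hd ha hok hb)

theorem trans_self [Finite E] {j : ZMod 12} (hj : j.val % 2 = 0) : ∀ u ∈ gen σ x {j}, u ≠ 1 → ∀ u' ∈ gen σ x {j}, u' ≠ 1 →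
    ∃ t ∈ h.H, t * u * t⁻¹ = u' := by
  intro u hu hu1 u' hu' hu1'
  obtain ⟨b, hb, rfl⟩ := h.mem_gen_singleton.1 hu
  obtain ⟨b', hb', rfl⟩ := h.mem_gen_singleton.1 hu'
  have hb0 : b ≠ 0 := fun e => hu1 (by rw [e, h.x_zero])
  have hb0' : b' ≠ 0 := fun e => hu1' (by rw [e, h.x_zero])
  obtain ⟨s, hs⟩ := h.exists_sqrt (b' * b⁻¹)
  have hs0 : s ≠ 0 := by
    rintro rfl
    rw [zero_mul] at hs
    exact mul_ne_zero hb0' (inv_ne_zero hb0) hs.symm
  have hsf : σ s = s := h.sqrt_fix hs (by rw [map_mul, map_inv₀, hb hj, hb' hj])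
  refine ⟨hh x j s, h.hh_mem_H j hs0 (ok_of_fix j hsf), ?_⟩
  rw [h.tor j j hs0 (ok_of_fix j hsf) hb, sub_self, ch_zero_right, pow_two, hs, mul_assoc, inv_mul_cancel₀ hb0, mul_one]

/-- **The product version.** -/
theorem ktriP [Finite E] [Finite G] (hg : NormGen σ) {R : Subgroup G} (A : Amb (AA σ x) R) (hR : ∃ t ∈ R, t ≠ 1)
    {ω : E} (hω : σ ω = ω) (hω0 : ω ≠ 0) (hω1 : ω ≠ 1) (hN : NotTwo σ) :
    KTriP (AA σ x) R h.H (gen σ x {2}) (gen σ x {6}) (gen σ x {4}) (gen σ x (arc 11 7)) (gen σ x (arc 3 7))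
      (gen σ x (arc 1 7)) (gen σ x (arc 1 5)) (gen σ x (arc 3 5)) (gen σ x (arc 3 3)) (nn x 6) (nn x 2) where
  XrPd := sing_le h (by decide)
  XsPd := sing_le h (by decide)
  XdPr := sing_le h (by decide)
  XdPs := sing_le h (by decide)
  TK := H_le h
  Tab := fun a ha b hb => (h.H_comm ha hb).eq
  Todd := fun a ha => H_odd h ha
  TXr := fun a ha => cJ_H h ha _
  TXs := fun a ha => cJ_H h ha _
  TXd := fun a ha => cJ_H h ha _
  nK := nn_mem_AA h 6
  nX := cJ_nn h 6 (by rintro _ rfl; decide) (by rintro _ rfl; decide)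
  mK := nn_mem_AA h 2
  mX := cJ_nn h 2 (by rintro _ rfl; decide) (by rintro _ rfl; decide)
  Ttr := trans_self h (by decide)
  Tts := trans_self h (by decide)
  trr := by
    intro u hu hu1 u' hu'
    obtain ⟨b, hb, rfl⟩ := h.mem_gen_singleton.1 hu
    obtain ⟨b', hb', rfl⟩ := h.mem_gen_singleton.1 hu'
    have hb0 : b ≠ 0 := fun e => hu1 (by rw [e, h.x_zero])
    obtain ⟨l, hl, e⟩ := exists_list_div h hg (hb (by decide)) hb0 (hb' (by decide))
    refine ⟨l.map (hh x 3), ?_, by rw [lact_long h (by decide) (by decide) (Or.inr (by decide)) (hb (by decide)) l hl, e]⟩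
    intro g hg
    obtain ⟨a, ha, rfl⟩ := List.mem_map.1 hg
    exact ⟨h.hh_mem_H 3 (hl a ha) (ok_odd (by decide) a),
      cen_perp h (Or.inl (by decide)) (hl a ha) (ok_odd (by decide) a),
      comm_nn_hh h 6 3 (by decide) (ok_odd (by decide) a)⟩
  trs := by
    intro u hu hu1 u' hu'
    obtain ⟨b, hb, rfl⟩ := h.mem_gen_singleton.1 hu
    obtain ⟨b', hb', rfl⟩ := h.mem_gen_singleton.1 hu'
    have hb0 : b ≠ 0 := fun e => hu1 (by rw [e, h.x_zero])
    obtain ⟨l, hl, e⟩ := exists_list_div h hg (hb (by decide)) hb0 (hb' (by decide))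
    refine ⟨l.map (hh x 5), ?_, by rw [lact_long h (by decide) (by decide) (Or.inl (by decide)) (hb (by decide)) l hl, e]⟩
    intro g hg
    obtain ⟨a, ha, rfl⟩ := List.mem_map.1 hg
    exact ⟨h.hh_mem_H 5 (hl a ha) (ok_odd (by decide) a),
      cen_perp h (Or.inr (by decide)) (hl a ha) (ok_odd (by decide) a),
      comm_nn_hh h 2 5 (by decide) (ok_odd (by decide) a)⟩
  k1r := by
    obtain ⟨a, ha, ha1⟩ := hg.exists_ne h.two hω hω0 hω1
    exact ⟨hh x 3 a, h.hh_mem_H 3 ha (ok_odd (by decide) a), cen_perp h (Or.inl (by decide)) ha (ok_odd (by decide) a),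
      fpf_long h (by decide) (by decide) (Or.inr (by decide)) ha ha1,
      fpf_long h (by decide) (by decide) (Or.inl (by decide)) ha ha1⟩
  k1s := by
    obtain ⟨a, ha, ha1⟩ := hg.exists_ne h.two hω hω0 hω1
    exact ⟨hh x 5 a, h.hh_mem_H 5 ha (ok_odd (by decide) a), cen_perp h (Or.inr (by decide)) ha (ok_odd (by decide) a),
      fpf_long h (by decide) (by decide) (Or.inl (by decide)) ha ha1,
      fpf_long h (by decide) (by decide) (Or.inr (by decide)) ha ha1⟩
  k3r := by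
    obtain ⟨a, ha, ha1⟩ := hg.exists_ne h.two hω hω0 hω1
    exact ⟨hh x 1 a, h.hh_mem_H 1 ha (ok_odd (by decide) a), cen_perp h (Or.inl (by decide)) ha (ok_odd (by decide) a),
      fpf_long h (by decide) (by decide) (Or.inl (by decide)) ha ha1⟩
  k3s := by
    obtain ⟨a, ha, ha1⟩ := hg.exists_ne h.two hω hω0 hω1
    exact ⟨hh x 7 a, h.hh_mem_H 7 ha (ok_odd (by decide) a), cen_perp h (Or.inr (by decide)) ha (ok_odd (by decide) a),
      fpf_long h (by decide) (by decide) (Or.inr (by decide)) ha ha1⟩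
  cmX := by
    intro u hu v hv
    obtain ⟨b, t, hb, ht, -, -, e⟩ := commX h u v hu hv
    rw [e]
    exact x_mem_gen (Set.mem_singleton _) (ok_of_fix 4 (by rw [map_mul, hb, ht]))
  nd := by
    intro u hu v hv huv
    obtain ⟨b, t, hb, ht, e2, e6, e⟩ := commX h u v hu hv
    have h1 : x 4 (b * t) = 1 := by
      rw [← e, huv]
      group
    rcases mul_eq_zero.1 ((h.x_eq_one (k := 4) (ok_of_fix 4 (by rw [map_mul, hb, ht]))).1 h1) with h0 | h0
    · left; rw [e2, h0, h.x_zero]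
    · right; rw [e6, h0, h.x_zero]
  big := by
    refine ⟨x 2 1, x_mem_gen (Set.mem_singleton _) (ok_one σ 2), x 2 ω, x_mem_gen (Set.mem_singleton _) (ok_of_fix 2 hω),
      ?_, ?_, ?_⟩
    · rw [Ne, h.x_eq_one (ok_one σ 2)]; exact one_ne_zero
    · rw [Ne, h.x_eq_one (ok_of_fix 2 hω)]; exact hω0
    · rw [Ne, h.x_inj (ok_one σ 2) (ok_of_fix 2 hω)]; exact hω1.symm
  disr := fun u h1 h2 => disj h (by decide) h1 h2
  diss := fun u h1 h2 => disj h (by decide) h1 h2
  YrPr := arc_sub (by decide)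
  YrPd := arc_sub (by decide)
  YrN := fun u hu y hy => norm_conj_X6 h hy hu
  K2r := by
    intro c hc hcY
    obtain ⟨z, hz, hz'⟩ := aut_Q2 h hN (normalises A hR hc) hcY
    have hzA : z ∈ AA σ x := gen_mono (Set.subset_univ _) hz
    obtain ⟨u, hu, v, hv, rfl⟩ := mem_pair h (k := 2) (l := 4) (by decide) (by decide) hz
    exact ⟨u, hu, v, hv, C1_of_cent hzA A.comm hc hz'⟩
  YsPs := arc_sub (by decide)
  YsPd := arc_sub (by decide)
  YsN := fun u hu y hy => norm_conj_X2 h hy hu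
  K2s := by
    intro c hc hcY
    obtain ⟨z, hz, hz'⟩ := aut_Q2' h hN (normalises A hR hc) hcY
    have hzA : z ∈ AA σ x := gen_mono (Set.subset_univ _) hz
    obtain ⟨u, hu, v, hv, rfl⟩ := mem_pair h (k := 4) (l := 6) (by decide) (by decide) hz
    refine ⟨v, hv, u, hu, ?_⟩
    have huv : u * v = v * u := by
      obtain ⟨b, hb, rfl⟩ := h.mem_gen_singleton.1 hu
      obtain ⟨t, ht, rfl⟩ := h.mem_gen_singleton.1 hv
      exact (h.comm_long (k := 4) (by decide) (by decide) hb ht).eq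
    rw [← huv]
    exact C1_of_cent hzA A.comm hc hz'
  YPr := arc_sub (by decide)
  YPs := arc_sub (by decide)
  YPd := arc_sub (by decide)
  K1 := by
    intro c hc h2 h6 hY
    have hQ : gen σ x (arc 2 5) ≤ centralizer ({c} : Set G) := by
      refine gen26 h ?_ ?_ ?_ <;>
      · intro v hv
        rw [mem_centralizer_iff]
        rintro _ rfl
        first | exact h2 v hv | exact h6 v hv | exact hY v hv
    obtain ⟨z, hz, hz'⟩ := aut_Q1 h hN (normalises A hR hc) fun v hv =>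
      mem_centralizer_iff.1 (hQ hv) c (Set.mem_singleton c)
    exact ⟨z, hz, C1_of_cent (gen_mono (Set.subset_univ _) hz) A.comm hc hz'⟩

end Cfsg.Agent.OddHalf.DblR.HexK
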